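import Mathlib
import Cfsg.Prelude.Def_Local
import Cfsg.Prelude.Def_Balance
import Cfsg.Prelude.Def_CaseTheorems
import Cfsg.Statements.S0217
import Cfsg.Agent.SigF.Gen
import Cfsg.Agent.SigF.Bal1

/-!
The solvable signalizer functor theorem (S0217) and its first consequences: THE ONLY file of this
family citing S0217.
-/

set_option autoImplicit false
set_option linter.all false

namespace Cfsg.Agent.H32.SFB

open Subgroup

universe u

variable {G : Type u} [Group G] [Finite G] {p : ℕ} [hp : Fact p.Prime]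

/-- The join of the `θ a`, `a ∈ E` nontrivial. -/
def W (θ : G → Subgroup G) (E : Subgroup G) : Subgroup G := ⨆ a : {a : G // a ∈ E ∧ a ≠ 1}, θ a

theorem le_W {θ : G → Subgroup G} {E : Subgroup G} {a : G} (ha : a ∈ E) (h1 : a ≠ 1) : θ a ≤ W θ E :=
  le_iSup (fun a : {a : G // a ∈ E ∧ a ≠ 1} => θ a) ⟨a, ha, h1⟩

theorem W_le {θ : G → Subgroup G} {E K : Subgroup G} (h : ∀ a ∈ E, a ≠ 1 → θ a ≤ K) : W θ E ≤ K :=
  iSup_le fun a => h a.1 a.2.1 a.2.2

theorem W_mono {θ : G → Subgroup G} {E F : Subgroup G} (h : E ≤ F) : W θ E ≤ W θ F :=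
  W_le fun a ha h1 => le_W (h ha) h1

/-- completeness of `θ` on `A` -/
def Complete (p : ℕ) (θ : G → Subgroup G) (A : Subgroup G) : Prop :=
  ¬ p ∣ Nat.card (W θ A) ∧ (∀ a ∈ A, a ≠ 1 → W θ A ⊓ Subgroup.centralizer {a} = θ a) ∧
    A ≤ Subgroup.normalizer ((W θ A : Subgroup G) : Set G)

theorem conj_mem_iff_map {b : G} {H : Subgroup G} : b ∈ Subgroup.normalizer (H : Set G) ↔
    H.map (MulAut.conj b).toMonoidHom = H := by
  rw [← SigF.cj_def]; exact SigF.mem_normalizer_iff_cj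

/-- The solvable signalizer functor theorem. -/
theorem complete {A : Subgroup G} (hA : Cfsg.IsElementaryAbelian p A) (hA3 : p ^ 3 ≤ Nat.card A)
    {θ : G → Subgroup G} (hC : ∀ a ∈ A, a ≠ 1 → θ a ≤ Subgroup.centralizer {a})
    (hp' : ∀ a ∈ A, a ≠ 1 → ¬ p ∣ Nat.card (θ a))
    (hinv : ∀ a ∈ A, a ≠ 1 → A ≤ Subgroup.normalizer ((θ a : Subgroup G) : Set G))
    (hsol : ∀ a ∈ A, a ≠ 1 → Group.IsSolvable (θ a))
    (hbal : ∀ a ∈ A, a ≠ 1 → ∀ b ∈ A, b ≠ 1 → θ a ⊓ Subgroup.centralizer {b} ≤ θ b) :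
    Complete p θ A := by
  have h := Cfsg.CfsgFrozen.S0217 (p := p) A (fun a ha b hb => SigF.elem_comm hA ha hb)
    (fun a ha => by
      have := hA.2
      exact this a ha) hA3 θ hC hp'
    (fun a ha h1 b hb x hx => (Subgroup.mem_normalizer_iff.1 (hinv a ha h1 hb) x).1 hx) hsol hbal
  refine ⟨h.1, h.2, ?_⟩
  intro b hb
  rw [conj_mem_iff_map, W, Subgroup.map_iSup]
  refine iSup_congr fun a => ?_
  exact conj_mem_iff_map.1 (hinv a.1 a.2.1 a.2.2 hb)

/-- independence of `W` of the noncyclic subgroup of `A` -/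
theorem Complete.W_eq {A : Subgroup G} {θ : G → Subgroup G} (h : Complete p θ A)
    {E : Subgroup G} (hE : Cfsg.IsElementaryAbelian p E) (hEA : E ≤ A) (hE2 : p ^ 2 ≤ Nat.card E) : W θ E = W θ A := by
  refine SigF.eq_of_fixed_le hE hE2 h.1 (hEA.trans h.2.2) (W_mono hEA) ?_
  intro a ha h1
  rw [h.2.1 a (hEA ha) h1]
  exact le_W ha h1

end Cfsg.Agent.H32.SFB
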