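import Mathlib
import Cfsg.Prelude.Def_Local
import Cfsg.Prelude.Def_Balance
import Cfsg.Prelude.Def_CaseTheorems
import Cfsg.Agent.H32.SFBase

/-!
Rank bookkeeping and the connectivity argument for signalizer functors.
-/

set_option autoImplicit false
set_option linter.all false

namespace Cfsg.Agent.H32.SFB

open Subgroup

universe u

section Rank

variable {G : Type u} [Group G] [Finite G] {p : ℕ} [hp : Fact p.Prime]

theorem elem_card {B : Subgroup G} (hB : Cfsg.IsElementaryAbelian p B) : ∃ n, Nat.card B = p ^ n := by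
  have h := SigF.isPGroup_of_elem hB
  exact IsPGroup.iff_card.1 h

theorem pow_succ_le_of_lt {B : Subgroup G} (hB : Cfsg.IsElementaryAbelian p B) {k : ℕ}
    (h : p ^ k < Nat.card B) : p ^ (k + 1) ≤ Nat.card B := by
  obtain ⟨n, hn⟩ := elem_card hB
  rw [hn] at h ⊢
  have := (Nat.pow_lt_pow_iff_right hp.out.one_lt).1 h
  exact Nat.pow_le_pow_right hp.out.pos this

theorem exists_elem_of_rank {H : Subgroup G} {k : ℕ} (h : ¬ Cfsg.PRankLE p k H) :
    ∃ B : Subgroup G, B ≤ H ∧ Cfsg.IsElementaryAbelian p B ∧ p ^ (k + 1) ≤ Nat.card B := by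
  unfold Cfsg.PRankLE at h
  push Not at h
  obtain ⟨A, hAc, hAe, hcard⟩ := h
  have hel : Cfsg.IsElementaryAbelian p (A.map H.subtype) := by
    refine ⟨⟨⟨?_⟩⟩, ?_⟩
    · rintro ⟨_, a, ha, rfl⟩ ⟨_, b, hb, rfl⟩
      have := hAc.1.1 ⟨a, ha⟩ ⟨b, hb⟩
      apply Subtype.ext
      have h2 := congrArg (fun x : A => ((x : H) : G)) this
      exact h2
    · rintro _ ⟨a, ha, rfl⟩
      rw [← map_pow, hAe a ha, map_one]
  have hc : Nat.card (A.map H.subtype) = Nat.card A :=
    Subgroup.card_map_of_injective (Subgroup.subtype_injective _)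
  refine ⟨A.map H.subtype, Subgroup.map_subtype_le _, hel, pow_succ_le_of_lt hel ?_⟩
  rw [hc]; exact hcard

theorem exists_elem_of_rank_top {k : ℕ} (h : ¬ Cfsg.PRankLE p k G) :
    ∃ B : Subgroup G, Cfsg.IsElementaryAbelian p B ∧ p ^ (k + 1) ≤ Nat.card B := by
  unfold Cfsg.PRankLE at h
  push Not at h
  obtain ⟨A, hAc, hAe, hcard⟩ := h
  exact ⟨A, ⟨hAc, hAe⟩, pow_succ_le_of_lt ⟨hAc, hAe⟩ hcard⟩

theorem not_rankLE_of_elem {H B : Subgroup G} (hB : Cfsg.IsElementaryAbelian p B) (hBH : B ≤ H) {k : ℕ}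
    (hc : p ^ (k + 1) ≤ Nat.card B) : ¬ Cfsg.PRankLE p k H := by
  intro h
  have h1 := h (B.subgroupOf H) (by
      refine ⟨⟨?_⟩⟩
      rintro ⟨a, ha⟩ ⟨b, hb⟩
      apply Subtype.ext
      apply Subtype.ext
      exact SigF.elem_comm hB ha hb) (by
      intro a ha
      apply Subtype.ext
      exact hB.2 _ ha)
  rw [Nat.card_congr (Subgroup.subgroupOfEquivOfLe hBH).toEquiv] at h1
  have h2 : p ^ k < p ^ (k + 1) := (Nat.pow_lt_pow_iff_right hp.out.one_lt).2 (Nat.lt_succ_self k)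
  omega

theorem elem_sup {A B : Subgroup G} (hA : Cfsg.IsElementaryAbelian p A) (hB : Cfsg.IsElementaryAbelian p B)
    (hc : ∀ a ∈ A, ∀ b ∈ B, a * b = b * a) : Cfsg.IsElementaryAbelian p (A ⊔ B) := by
  have hABcl : ∀ x ∈ A ⊔ B, ∃ a ∈ A, ∃ b ∈ B, a * b = x := by
    intro x hx
    have hN : B ≤ Subgroup.normalizer (A : Set G) := by
      intro b hb
      rw [Subgroup.mem_normalizer_iff]
      intro y
      constructor
      · intro hy
        rw [← hc y hy b hb, mul_inv_cancel_right]; exact hy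
      · intro hy
        have h1 := hc _ hy b hb
        have h2 : b * y = b * (b * y * b⁻¹) := by rw [← h1]; group
        have h3 := mul_left_cancel h2
        rw [h3]; exact hy
    have h5 := Subgroup.coe_mul_of_right_le_normalizer_left A B hN
    rw [← SetLike.mem_coe, h5, Set.mem_mul] at hx
    exact hx
  refine ⟨⟨⟨?_⟩⟩, ?_⟩
  · rintro ⟨x, hx⟩ ⟨y, hy⟩
    apply Subtype.ext
    obtain ⟨a, ha, b, hb, rfl⟩ := hABcl x hx
    obtain ⟨a', ha', b', hb', rfl⟩ := hABcl y hy
    change a * b * (a' * b') = a' * b' * (a * b)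
    calc a * b * (a' * b') = a * (b * a') * b' := by group
      _ = a * (a' * b) * b' := by rw [hc a' ha' b hb]
      _ = (a * a') * (b * b') := by group
      _ = (a' * a) * (b' * b) := by rw [SigF.elem_comm hA ha ha', SigF.elem_comm hB hb hb']
      _ = a' * (a * b') * b := by group
      _ = a' * (b' * a) * b := by rw [hc a ha b' hb']
      _ = a' * b' * (a * b) := by group
  · intro x hx
    obtain ⟨a, ha, b, hb, rfl⟩ := hABcl x hx
    rw [(show Commute a b from hc a ha b hb).mul_pow, hA.2 a ha, hB.2 b hb, one_mul]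

theorem elem_zpowers {a : G} (ha : a ^ p = 1) : Cfsg.IsElementaryAbelian p (Subgroup.zpowers a) := by
  refine ⟨inferInstance, ?_⟩
  rintro _ ⟨n, rfl⟩
  change (a ^ n) ^ p = 1
  rw [← zpow_natCast, ← zpow_mul, mul_comm, zpow_mul, zpow_natCast, ha, one_zpow]

theorem elem_map {A : Subgroup G} (hA : Cfsg.IsElementaryAbelian p A) {K : Type*} [Group K] (f : G →* K) :
    Cfsg.IsElementaryAbelian p (A.map f) := by
  refine ⟨⟨⟨?_⟩⟩, ?_⟩
  · rintro ⟨_, a, ha, rfl⟩ ⟨_, b, hb, rfl⟩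
    apply Subtype.ext
    change f a * f b = f b * f a
    rw [← map_mul, SigF.elem_comm hA ha hb, map_mul]
  · rintro _ ⟨a, ha, rfl⟩
    rw [← map_pow, hA.2 a ha, map_one]

theorem orderOf_of_elem {A : Subgroup G} (hA : Cfsg.IsElementaryAbelian p A) {a : G} (ha : a ∈ A) (h1 : a ≠ 1) :
    orderOf a = p := orderOf_eq_prime (hA.2 a ha) h1

end Rank

end Cfsg.Agent.H32.SFB
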