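import Mathlib
import Cfsg.Prelude.Def_Local
import Cfsg.Prelude.Def_Balance
import Cfsg.Prelude.Def_CaseTheorems
import Cfsg.Agent.H32.SFRank

/-!
Equivariant solvable signalizer functors on a connected rank-2 graph are trivial.
-/

set_option autoImplicit false
set_option linter.all false

namespace Cfsg.Agent.H32.SFB

open Subgroup

universe u

variable {G : Type u} [Group G] [Finite G] {p : ℕ} [hp : Fact p.Prime]

theorem W_map {θ : G → Subgroup G} {A : Subgroup G} {g : G}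
    (h : ∀ a ∈ A, a ≠ 1 → θ (g * a * g⁻¹) = (θ a).map (MulAut.conj g).toMonoidHom) :
    W θ (A.map (MulAut.conj g).toMonoidHom) = (W θ A).map (MulAut.conj g).toMonoidHom := by
  apply le_antisymm
  · apply W_le
    rintro _ ⟨a, ha, rfl⟩ h1
    have ha1 : a ≠ 1 := by rintro rfl; exact h1 (map_one _)
    change θ (g * a * g⁻¹) ≤ _
    rw [h a ha ha1]
    exact Subgroup.map_mono (le_W ha ha1)
  · rw [W, Subgroup.map_iSup]
    refine iSup_le fun a => ?_
    rw [← h a.1 a.2.1 a.2.2]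
    refine le_W ⟨a.1, a.2.1, rfl⟩ ?_
    intro h1
    apply a.2.2
    have h2 : MulAut.conj g a.1 = 1 := h1
    rwa [map_eq_one_iff _ (MulAut.conj g).injective] at h2

/-- the domain of the functor -/
def Good (p : ℕ) (a : G) : Prop :=
  orderOf a = p ∧ ¬ Cfsg.PRankLE p 2 ↥(Subgroup.centralizer ({a} : Set G))

theorem le_centralizer_of_elem {A : Subgroup G} (hA : Cfsg.IsElementaryAbelian p A) {a : G} (ha : a ∈ A) :
    A ≤ Subgroup.centralizer ({a} : Set G) := by
  intro b hb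
  rw [Subgroup.mem_centralizer_singleton_iff]
  exact SigF.elem_comm hA hb ha

theorem good_of_elem {A : Subgroup G} (hA : Cfsg.IsElementaryAbelian p A) (hA3 : p ^ 3 ≤ Nat.card A)
    {a : G} (ha : a ∈ A) (h1 : a ≠ 1) : Good p a :=
  ⟨orderOf_of_elem hA ha h1, not_rankLE_of_elem hA (le_centralizer_of_elem hA ha) hA3⟩

theorem vertex_cover {E : Subgroup G} (hE : Cfsg.IsRankGraphVertex p 2 E) :
    ∃ A : Subgroup G, E ≤ A ∧ Cfsg.IsElementaryAbelian p A ∧ p ^ 3 ≤ Nat.card A := by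
  obtain ⟨B, hBC, hB, hB3⟩ := exists_elem_of_rank hE.2.2
  refine ⟨E ⊔ B, le_sup_left, elem_sup hE.1 hB ?_, hB3.trans (Nat.card_le_card_of_injective _ (Subgroup.inclusion_injective le_sup_right))⟩
  intro a ha b hb
  exact Subgroup.mem_centralizer_iff.1 (hBC hb) a ha

theorem vertex_of_elem {A : Subgroup G} (hA : Cfsg.IsElementaryAbelian p A) (hA3 : p ^ 3 ≤ Nat.card A) :
    Cfsg.IsRankGraphVertex p 2 A := by
  refine ⟨hA, le_trans (Nat.pow_le_pow_right hp.out.pos (by norm_num)) hA3, ?_⟩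
  refine not_rankLE_of_elem hA ?_ hA3
  intro b hb
  rw [Subgroup.mem_centralizer_iff]
  intro a ha
  exact SigF.elem_comm hA ha hb

theorem complete_of {θ : G → Subgroup G}
    (hC : ∀ a : G, Good p a → θ a ≤ Subgroup.centralizer {a} ∧ ¬ p ∣ Nat.card ↥(θ a) ∧ Group.IsSolvable ↥(θ a))
    (heq : ∀ a g : G, Good p a → θ (g * a * g⁻¹) = (θ a).map (MulAut.conj g).toMonoidHom)
    (hbal : ∀ a b : G, Good p a → Good p b → a * b = b * a → θ a ⊓ Subgroup.centralizer {b} ≤ θ b)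
    {A : Subgroup G} (hA : Cfsg.IsElementaryAbelian p A) (hA3 : p ^ 3 ≤ Nat.card A) : Complete p θ A := by
  have hg : ∀ a ∈ A, a ≠ 1 → Good p a := fun a ha h1 => good_of_elem hA hA3 ha h1
  refine complete hA hA3 (fun a ha h1 => (hC a (hg a ha h1)).1) (fun a ha h1 => (hC a (hg a ha h1)).2.1) ?_
    (fun a ha h1 => (hC a (hg a ha h1)).2.2) ?_
  · intro a ha h1 b hb
    rw [conj_mem_iff_map, ← heq a b (hg a ha h1), SigF.elem_comm hA hb ha, mul_inv_cancel_right]
  · intro a ha h1 b hb h2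
    exact hbal a b (hg a ha h1) (hg b hb h2) (SigF.elem_comm hA ha hb)

theorem eq_of_edge {θ : G → Subgroup G}
    (hcomp : ∀ A : Subgroup G, Cfsg.IsElementaryAbelian p A → p ^ 3 ≤ Nat.card A → Complete p θ A)
    {E F : Subgroup G} (hE : Cfsg.IsElementaryAbelian p E) (hE2 : p ^ 2 ≤ Nat.card E)
    (hF : Cfsg.IsElementaryAbelian p F) (hF2 : p ^ 2 ≤ Nat.card F)
    (hc : ∀ a ∈ E, ∀ b ∈ F, a * b = b * a) : W θ E = W θ F := by
  have hEF := elem_sup hE hF hc
  by_cases h3 : p ^ 3 ≤ Nat.card ↥(E ⊔ F)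
  · rw [(hcomp _ hEF h3).W_eq hE le_sup_left hE2, (hcomp _ hEF h3).W_eq hF le_sup_right hF2]
  · have h4 : Nat.card ↥(E ⊔ F) ≤ p ^ 2 := by
      by_contra h5
      exact h3 (pow_succ_le_of_lt hEF (not_le.1 h5))
    have h6 : E = E ⊔ F := Subgroup.eq_of_le_of_card_ge le_sup_left (h4.trans hE2)
    have h7 : F = E ⊔ F := Subgroup.eq_of_le_of_card_ge le_sup_right (h4.trans hF2)
    rw [h6.trans h7.symm]

theorem normal_of_forall {K : Subgroup G} (h : ∀ g : G, K.map (MulAut.conj g).toMonoidHom = K) : K.Normal := by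
  rw [← Subgroup.normalizer_eq_top_iff, eq_top_iff]
  intro g _
  exact conj_mem_iff_map.2 (h g)

theorem eq_bot_of_normal (hO : Cfsg.pPrimeCore p G = ⊥) {K : Subgroup G} (hn : K.Normal)
    (hK : ¬ p ∣ Nat.card K) : K = ⊥ := by
  rw [eq_bot_iff, ← hO]
  exact Solv.le_pPrimeCore hn ((Nat.Prime.coprime_iff_not_dvd hp.out).2 hK).symm

theorem trivial_of_connected (hO : Cfsg.pPrimeCore p G = ⊥) (hrk : ¬ Cfsg.PRankLE p 2 G)
    (hconn : Cfsg.IsRankGraphConnected p 2 G) (θ : G → Subgroup G)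
    (hC : ∀ a : G, Good p a → θ a ≤ Subgroup.centralizer {a} ∧ ¬ p ∣ Nat.card ↥(θ a) ∧ Group.IsSolvable ↥(θ a))
    (heq : ∀ a g : G, Good p a → θ (g * a * g⁻¹) = (θ a).map (MulAut.conj g).toMonoidHom)
    (hbal : ∀ a b : G, Good p a → Good p b → a * b = b * a → θ a ⊓ Subgroup.centralizer {b} ≤ θ b)
    (a : G) (ha : Good p a) : θ a = ⊥ := by
  have hcomp : ∀ A : Subgroup G, Cfsg.IsElementaryAbelian p A → p ^ 3 ≤ Nat.card A → Complete p θ A :=
    fun A hA hA3 => complete_of hC heq hbal hA hA3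
  have hedge : ∀ E F : Subgroup G, Cfsg.IsRankGraphVertex p 2 E → Cfsg.IsRankGraphVertex p 2 F → W θ E = W θ F := by
    intro E F hE hF
    have h := hconn E F hE hF
    induction h with
    | refl => rfl
    | tail h1 h2 ih =>
      rw [ih h2.1]
      exact eq_of_edge hcomp h2.1.1 h2.1.2.1 h2.2.1.1 h2.2.1.2.1 h2.2.2
  obtain ⟨A, hA, hA3⟩ := exists_elem_of_rank_top hrk
  have hAv := vertex_of_elem hA hA3
  have hnorm : (W θ A).Normal := by
    apply normal_of_forall
    intro g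
    rw [← W_map (fun a ha h1 => heq a g (good_of_elem hA hA3 ha h1))]
    apply hedge _ _ _ hAv
    apply vertex_of_elem (elem_map hA _)
    rw [Subgroup.card_map_of_injective (MulAut.conj g).injective]
    exact hA3
  have hbot : W θ A = ⊥ := eq_bot_of_normal hO hnorm (hcomp A hA hA3).1
  obtain ⟨B, hBC, hB, hB3⟩ := exists_elem_of_rank ha.2
  have hap : a ^ p = 1 := by rw [← ha.1]; exact pow_orderOf_eq_one a
  have ha1 : a ≠ 1 := by
    intro h
    have := ha.1
    rw [h, orderOf_one] at this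
    exact hp.out.one_lt.ne this
  have hF : Cfsg.IsElementaryAbelian p (Subgroup.zpowers a ⊔ B) := by
    apply elem_sup (elem_zpowers hap) hB
    intro x hx b hb
    have h1 := Subgroup.mem_centralizer_singleton_iff.1 (hBC hb)
    obtain ⟨n, rfl⟩ := hx
    exact (((show Commute b a from h1).zpow_right n).eq).symm
  have hF3 : p ^ 3 ≤ Nat.card ↥(Subgroup.zpowers a ⊔ B) := hB3.trans (Nat.card_le_card_of_injective _ (Subgroup.inclusion_injective le_sup_right))
  have h5 := hedge _ _ (vertex_of_elem hF hF3) hAv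
  rw [eq_bot_iff, ← hbot, ← h5]
  exact le_W ((le_sup_left : Subgroup.zpowers a ≤ _) (Subgroup.mem_zpowers a)) ha1

end Cfsg.Agent.H32.SFB
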