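import Mathlib
import Cfsg.Prelude.Def_Local
import Cfsg.Prelude.Def_Balance
import Cfsg.Prelude.Def_CaseTheorems
import Cfsg.Agent.H32.SFGraph
import Cfsg.Agent.H32.SFCore
import Cfsg.Agent.H30.ElemAb

/-!
2-signalizer functors in the presence of an elementary abelian subgroup `V` of order at least 8
normal in a Sylow 2-subgroup `R`: `W θ E` is independent of `E ≤ R`, `|E| ≥ 4`.
-/

set_option autoImplicit false
set_option linter.all false

namespace Cfsg.Agent.H32.SFB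

open Subgroup

universe u

variable {G : Type u} [Group G] [Finite G]

theorem card_pow_two_of {E : Subgroup G} (hE : Cfsg.IsElementaryAbelian 2 E) {k : ℕ} (h : 2 ^ k < Nat.card E) :
    2 ^ (k + 1) ≤ Nat.card E := by
  haveI : Fact (Nat.Prime 2) := ⟨Nat.prime_two⟩
  exact pow_succ_le_of_lt hE h

/-- rank of `C_V(e)` -/
theorem cent_ge {V : Subgroup G} (hV : Cfsg.IsElementaryAbelian 2 V) (hV3 : 2 ^ 3 ≤ Nat.card V) {e : G}
    (he : e ^ 2 = 1) (heV : e ∈ Subgroup.normalizer (V : Set G)) :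
    2 ^ 2 ≤ Nat.card ↥(V ⊓ Subgroup.centralizer ({e} : Set G)) := by
  have h1 := H30.card_le_card_centralizer_sq hV he (fun f hf => (Subgroup.mem_normalizer_iff.1 heV f).1 hf)
  have hEl : Cfsg.IsElementaryAbelian 2 (V ⊓ Subgroup.centralizer ({e} : Set G)) := SigF.elem_mono hV inf_le_left
  apply card_pow_two_of hEl (k := 1)
  by_contra h
  push Not at h
  have : Nat.card ↥(V ⊓ Subgroup.centralizer ({e} : Set G)) ^ 2 ≤ 2 ^ 2 := Nat.pow_le_pow_left (by simpa using h) 2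
  have h3 : 2 ^ 3 ≤ 2 ^ 2 := hV3.trans (h1.trans this)
  norm_num at h3

/-- `⟨e⟩ C_V(e)` -/
theorem cover {V : Subgroup G} (hV : Cfsg.IsElementaryAbelian 2 V) (hV3 : 2 ^ 3 ≤ Nat.card V) {e : G}
    (he : e ^ 2 = 1) (heV : e ∈ Subgroup.normalizer (V : Set G)) :
    ∃ F : Subgroup G, Cfsg.IsElementaryAbelian 2 F ∧ 2 ^ 3 ≤ Nat.card F ∧ e ∈ F ∧
      V ⊓ Subgroup.centralizer ({e} : Set G) ≤ F := by
  haveI : Fact (Nat.Prime 2) := ⟨Nat.prime_two⟩
  by_cases hemV : e ∈ V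
  · exact ⟨V, hV, hV3, hemV, inf_le_left⟩
  · have hEl : Cfsg.IsElementaryAbelian 2 (V ⊓ Subgroup.centralizer ({e} : Set G)) := SigF.elem_mono hV inf_le_left
    have hF : Cfsg.IsElementaryAbelian 2 (Subgroup.zpowers e ⊔ (V ⊓ Subgroup.centralizer ({e} : Set G))) := by
      apply elem_sup (elem_zpowers he) hEl
      intro x hx b hb
      have h1 := Subgroup.mem_centralizer_singleton_iff.1 hb.2
      obtain ⟨n, rfl⟩ := hx
      exact (((show Commute b e from h1).zpow_right n).eq).symm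
    refine ⟨_, hF, ?_, (le_sup_left : Subgroup.zpowers e ≤ _) (Subgroup.mem_zpowers e), le_sup_right⟩
    apply card_pow_two_of hF (k := 2)
    refine lt_of_le_of_lt (cent_ge hV hV3 he heV) ?_
    apply lt_of_le_of_ne (Nat.card_le_card_of_injective _ (Subgroup.inclusion_injective le_sup_right))
    intro h
    have h2 := Subgroup.eq_of_le_of_card_ge (le_sup_right : V ⊓ Subgroup.centralizer ({e} : Set G) ≤
      Subgroup.zpowers e ⊔ (V ⊓ Subgroup.centralizer ({e} : Set G))) h.ge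
    apply hemV
    have h3 : e ∈ V ⊓ Subgroup.centralizer ({e} : Set G) := by
      rw [h2]
      exact (le_sup_left : Subgroup.zpowers e ≤ _) (Subgroup.mem_zpowers e)
    exact h3.1

/-- For an involution `e` normalizing `V`: `C_{W(V)}(e) = θ e`. -/
theorem inf_centralizer_eq {θ : G → Subgroup G}
    (hcomp : ∀ A : Subgroup G, Cfsg.IsElementaryAbelian 2 A → 2 ^ 3 ≤ Nat.card A → Complete 2 θ A)
    {V : Subgroup G} (hV : Cfsg.IsElementaryAbelian 2 V) (hV3 : 2 ^ 3 ≤ Nat.card V) {e : G}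
    (he : e ^ 2 = 1) (he1 : e ≠ 1) (heV : e ∈ Subgroup.normalizer (V : Set G)) :
    W θ V ⊓ Subgroup.centralizer {e} = θ e := by
  haveI : Fact (Nat.Prime 2) := ⟨Nat.prime_two⟩
  obtain ⟨F, hF, hF3, heF, hCF⟩ := cover hV hV3 he heV
  have hEl : Cfsg.IsElementaryAbelian 2 (V ⊓ Subgroup.centralizer ({e} : Set G)) := SigF.elem_mono hV inf_le_left
  have h2 := cent_ge hV hV3 he heV
  have h3 := (hcomp F hF hF3).W_eq hEl hCF h2
  have h4 := (hcomp V hV hV3).W_eq hEl inf_le_left h2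
  rw [← h4, h3]
  exact (hcomp F hF hF3).2.1 e heF he1

theorem W_eq_of_normal {θ : G → Subgroup G}
    (hcomp : ∀ A : Subgroup G, Cfsg.IsElementaryAbelian 2 A → 2 ^ 3 ≤ Nat.card A → Complete 2 θ A)
    {V : Subgroup G} (hV : Cfsg.IsElementaryAbelian 2 V) (hV3 : 2 ^ 3 ≤ Nat.card V)
    (heq : ∀ g ∈ Subgroup.normalizer (V : Set G), ∀ a ∈ V, a ≠ 1 →
      θ (g * a * g⁻¹) = (θ a).map (MulAut.conj g).toMonoidHom)
    {E : Subgroup G} (hE : Cfsg.IsElementaryAbelian 2 E) (hE2 : 2 ^ 2 ≤ Nat.card E)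
    (hEV : E ≤ Subgroup.normalizer (V : Set G)) : W θ E = W θ V := by
  haveI : Fact (Nat.Prime 2) := ⟨Nat.prime_two⟩
  have hn : E ≤ Subgroup.normalizer ((W θ V : Subgroup G) : Set G) := by
    intro g hg
    rw [conj_mem_iff_map, ← W_map (heq g (hEV hg)), conj_mem_iff_map.1 (hEV hg)]
  have hc := fun e he h1 => inf_centralizer_eq hcomp hV hV3 (hE.2 e he) h1 (hEV he)
  refine SigF.eq_of_fixed_le hE hE2 (hcomp V hV hV3).1 hn ?_ ?_
  · apply W_le
    intro e he h1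
    rw [← hc e he h1]
    exact inf_le_left
  · intro e he h1
    rw [hc e he h1]
    exact le_W he h1

theorem normalizer_le_W {θ : G → Subgroup G} {V : Subgroup G}
    (heq : ∀ g ∈ Subgroup.normalizer (V : Set G), ∀ a ∈ V, a ≠ 1 →
      θ (g * a * g⁻¹) = (θ a).map (MulAut.conj g).toMonoidHom) :
    Subgroup.normalizer (V : Set G) ≤ Subgroup.normalizer ((W θ V : Subgroup G) : Set G) := by
  intro g hg
  rw [conj_mem_iff_map, ← W_map (heq g hg), conj_mem_iff_map.1 hg]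

/-- the elements of order dividing 2 in a commutative subgroup -/
def om (A : Subgroup G) (hA : IsMulCommutative A) : Subgroup G where
  carrier := {x | x ∈ A ∧ x ^ 2 = 1}
  one_mem' := ⟨one_mem _, one_pow _⟩
  mul_mem' := by
    rintro a b ⟨ha, ha2⟩ ⟨hb, hb2⟩
    refine ⟨mul_mem ha hb, ?_⟩
    have hc : Commute a b := congrArg (fun x : A => (x : G)) (hA.1.1 ⟨a, ha⟩ ⟨b, hb⟩)
    rw [hc.mul_pow, ha2, hb2, one_mul]
  inv_mem' := by
    rintro a ⟨ha, ha2⟩
    exact ⟨inv_mem ha, by rw [inv_pow, ha2, inv_one]⟩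

theorem om_elem (A : Subgroup G) (hA : IsMulCommutative A) : Cfsg.IsElementaryAbelian 2 (om A hA) := by
  refine ⟨⟨⟨?_⟩⟩, fun a ha => ha.2⟩
  rintro ⟨a, ha⟩ ⟨b, hb⟩
  apply Subtype.ext
  exact congrArg (fun x : A => (x : G)) (hA.1.1 ⟨a, ha.1⟩ ⟨b, hb.1⟩)

theorem om_le (A : Subgroup G) (hA : IsMulCommutative A) : om A hA ≤ A := fun _ h => h.1

theorem normalizer_om (A : Subgroup G) (hA : IsMulCommutative A) :
    Subgroup.normalizer (A : Set G) ≤ Subgroup.normalizer ((om A hA : Subgroup G) : Set G) := by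
  intro g hg
  rw [Subgroup.mem_normalizer_iff] at hg ⊢
  intro x
  have h1 : (g * x * g⁻¹) ^ 2 = 1 ↔ x ^ 2 = 1 := by
    rw [conj_pow, mul_inv_eq_iff_eq_mul, one_mul]
    constructor
    · intro h; simpa using h
    · intro h; rw [h, mul_one]
  exact and_congr (hg x) h1.symm

theorem om_card {A : Subgroup G} (hA : IsMulCommutative A) (h : ¬ Cfsg.PRankLE 2 2 A) :
    2 ^ 3 ≤ Nat.card (om A hA) := by
  haveI : Fact (Nat.Prime 2) := ⟨Nat.prime_two⟩
  obtain ⟨B, hBA, hB, hB3⟩ := exists_elem_of_rank h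
  refine hB3.trans (Nat.card_le_card_of_injective _ (Subgroup.inclusion_injective (?_ : B ≤ om A hA)))
  intro b hb
  exact ⟨hBA hb, hB.2 b hb⟩

/-- `SCN₃(2) ≠ ∅` gives a normal elementary abelian subgroup of order at least 8. -/
theorem exists_V {S : Subgroup G} {A : Subgroup ↥S} (hAn : A.Normal) (hAab : IsMulCommutative ↥A)
    (hA3 : ¬ Cfsg.PRankLE 2 2 ↥A) : ∃ V : Subgroup G, V ≤ S ∧ Cfsg.IsElementaryAbelian 2 V ∧
      2 ^ 3 ≤ Nat.card V ∧ S ≤ Subgroup.normalizer (V : Set G) := by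
  haveI : Fact (Nat.Prime 2) := ⟨Nat.prime_two⟩
  have hA' := om_card hAab hA3
  refine ⟨(om A hAab).map S.subtype, Subgroup.map_subtype_le _, elem_map (om_elem A hAab) _, ?_, ?_⟩
  · rwa [Subgroup.card_map_of_injective (Subgroup.subtype_injective _)]
  · intro s hs
    have h1 : (⟨s, hs⟩ : S) ∈ Subgroup.normalizer ((om A hAab : Subgroup S) : Set S) :=
      normalizer_om A hAab (by rw [Subgroup.normalizer_eq_top_iff.2 hAn]; trivial)
    rw [Subgroup.mem_normalizer_iff] at h1 ⊢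
    intro x
    constructor
    · rintro ⟨y, hy, rfl⟩
      exact ⟨⟨s, hs⟩ * y * ⟨s, hs⟩⁻¹, (h1 y).1 hy, rfl⟩
    · rintro ⟨y, hy, h2⟩
      refine ⟨⟨s, hs⟩⁻¹ * y * ⟨s, hs⟩, ?_, ?_⟩
      · apply (h1 _).2
        have : (⟨s, hs⟩ : S) * (⟨s, hs⟩⁻¹ * y * ⟨s, hs⟩) * ⟨s, hs⟩⁻¹ = y := by group
        rw [this]; exact hy
      · change s⁻¹ * (y : G) * s = x
        have h3 : (y : G) = s * x * s⁻¹ := h2
        rw [h3]; group

end Cfsg.Agent.H32.SFB
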