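import Mathlib
import Cfsg.Prelude.Def_Local
import Cfsg.Prelude.Def_Balance
import Cfsg.Prelude.Def_CaseTheorems
import Cfsg.Agent.H32.SFScn
import Cfsg.Agent.H49.CoreGen
import Cfsg.Agent.FT.Base

/-!
The functor `a ↦ O(C(a))` when all 2-local subgroups are 2-constrained.
-/

set_option autoImplicit false
set_option linter.all false

namespace Cfsg.Agent.H32.SFB

open Subgroup SigF

universe u

variable {G : Type u} [Group G] [Finite G]

/-- the 2-constraint hypothesis -/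
def AllConstr (G : Type u) [Group G] : Prop :=
  ∀ T : Subgroup G, IsPGroup 2 T → T ≠ ⊥ → Cfsg.IsPConstrained 2 ↥(Subgroup.normalizer (T : Set G))

theorem isPGroup_zpowers_sq' {b : G} (hb : b ^ 2 = 1) : IsPGroup 2 (Subgroup.zpowers b) :=
  H49.isPGroup_zpowers_sq hb

theorem AllConstr.centralizer (h : AllConstr G) {b : G} (hb : b ^ 2 = 1) (h1 : b ≠ 1) :
    Cfsg.IsPConstrained 2 ↥(Subgroup.centralizer ({b} : Set G)) := by
  have h2 := h (Subgroup.zpowers b) (H49.isPGroup_zpowers_sq hb) (by simpa using h1)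
  rwa [H49.normalizer_zpowers_sq hb] at h2

theorem solvable_cppc (a : G) : Group.IsSolvable ↥(Cfsg.centralizerPPrimeCore 2 a) := by
  haveI : Fact (Nat.Prime 2) := ⟨Nat.prime_two⟩
  apply FT.solvable_of_odd
  rw [← Nat.not_even_iff_odd]
  exact fun h => Bal1.cppc_not_dvd (p := 2) a h.two_dvd

theorem AllConstr.complete (h : AllConstr G) {A : Subgroup G} (hA : Cfsg.IsElementaryAbelian 2 A)
    (hA3 : 2 ^ 3 ≤ Nat.card A) : Complete 2 (fun a : G => Cfsg.centralizerPPrimeCore 2 a) A := by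
  haveI : Fact (Nat.Prime 2) := ⟨Nat.prime_two⟩
  refine SFB.complete hA hA3 (fun a _ _ => Bal1.cppc_le a) (fun a _ _ => Bal1.cppc_not_dvd a)
    (fun a ha _ => Bal1.cppc_normal' (le_centralizer_of_elem hA ha)) (fun a _ _ => solvable_cppc a) ?_
  intro a ha h1 b hb h2
  exact Bal1.balance_of_pConstrained (SigF.elem_comm hA ha hb) (H49.isPGroup_zpowers_sq (hA.2 a ha))
    (h.centralizer (hA.2 b hb) h2)

theorem exists_inv_zpowers {b : G} {R : Subgroup G} (hR : IsPGroup 2 R) (hb : b ∈ R) (h1 : b ≠ 1) :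
    ∃ z ∈ Subgroup.zpowers b, orderOf z = 2 := by
  haveI : Fact (Nat.Prime 2) := ⟨Nat.prime_two⟩
  have h2 : IsPGroup 2 (Subgroup.zpowers b) := hR.to_le (Subgroup.zpowers_le.2 hb)
  have h3 : 2 ∣ Nat.card (Subgroup.zpowers b) := by
    obtain ⟨n, hn⟩ := IsPGroup.iff_card.1 h2
    rw [hn]
    rcases n with _ | n
    · exfalso
      rw [pow_zero, Subgroup.card_eq_one, Subgroup.zpowers_eq_bot] at hn
      exact h1 hn
    · exact dvd_pow_self 2 (Nat.succ_ne_zero n)
  obtain ⟨x, hx⟩ := exists_prime_orderOf_dvd_card' 2 h3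
  exact ⟨x, x.2, by rwa [Subgroup.orderOf_coe]⟩

theorem sq_of_order {z : G} (hz : orderOf z = 2) : z ^ 2 = 1 ∧ z ≠ 1 := by
  refine ⟨by rw [← hz]; exact pow_orderOf_eq_one z, ?_⟩
  rintro rfl
  rw [orderOf_one] at hz
  norm_num at hz

theorem AllConstr.mono (h : AllConstr G) {b z : G} {R : Subgroup G} (hR : IsPGroup 2 R) (hb : b ∈ R)
    (hz : z ∈ Subgroup.zpowers b) (hz2 : orderOf z = 2) :
    Cfsg.centralizerPPrimeCore 2 b ≤ Cfsg.centralizerPPrimeCore 2 z := by
  haveI : Fact (Nat.Prime 2) := ⟨Nat.prime_two⟩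
  obtain ⟨n, rfl⟩ := hz
  have hle : Subgroup.centralizer ({b} : Set G) ≤ Subgroup.centralizer ({b ^ n} : Set G) := by
    intro x hx
    rw [Subgroup.mem_centralizer_singleton_iff] at hx ⊢
    exact ((show Commute x b from hx).zpow_right n).eq
  apply Bal1.le_core_of_pConstrained (a := b) (h.centralizer (sq_of_order hz2).1 (sq_of_order hz2).2)
  · rw [Subgroup.mem_centralizer_singleton_iff]
    exact ((Commute.refl b).zpow_right n).eq
  · exact hR.to_le (Subgroup.zpowers_le.2 hb)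
  · exact (Bal1.cppc_le b).trans hle
  · exact Bal1.cppc_le b
  · exact inf_le_right.trans (Bal1.centralizer_le_normalizer_cppc b)
  · exact Bal1.cppc_coprime b

theorem conj_cppc_W {B : Subgroup G} : Subgroup.normalizer (B : Set G) ≤
    Subgroup.normalizer ((W (fun a : G => Cfsg.centralizerPPrimeCore 2 a) B : Subgroup G) : Set G) := by
  haveI : Fact (Nat.Prime 2) := ⟨Nat.prime_two⟩
  exact normalizer_le_W fun g _ a _ _ => cppc_conj g a

theorem AllConstr.W_eq (h : AllConstr G) {R V : Subgroup G} (hR : IsPGroup 2 R)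
    (hV : Cfsg.IsElementaryAbelian 2 V) (hV3 : 2 ^ 3 ≤ Nat.card V) (hRV : R ≤ Subgroup.normalizer (V : Set G))
    {B : Subgroup G} (hBR : B ≤ R) (hB : ¬ Cfsg.PRankLE 2 1 ↥B) :
    W (fun a : G => Cfsg.centralizerPPrimeCore 2 a) B = W (fun a : G => Cfsg.centralizerPPrimeCore 2 a) V := by
  haveI : Fact (Nat.Prime 2) := ⟨Nat.prime_two⟩
  obtain ⟨E, hEB, hE, hE2⟩ := exists_elem_of_rank hB
  have hcomp : ∀ A : Subgroup G, Cfsg.IsElementaryAbelian 2 A → 2 ^ 3 ≤ Nat.card A →
      Complete 2 (fun a : G => Cfsg.centralizerPPrimeCore 2 a) A := fun A hA hA3 => h.complete hA hA3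
  apply le_antisymm
  · apply W_le
    intro b hb h1
    obtain ⟨z, hz, hz2⟩ := exists_inv_zpowers hR (hBR hb) h1
    refine (h.mono hR (hBR hb) hz hz2).trans ?_
    have h3 := inf_centralizer_eq hcomp hV hV3 (sq_of_order hz2).1 (sq_of_order hz2).2
      (hRV ((Subgroup.zpowers_le.2 (hBR hb)) hz))
    rw [← h3]
    exact inf_le_left
  · rw [← W_eq_of_normal hcomp hV hV3 (fun g _ a _ _ => cppc_conj g a) hE hE2 ((hEB.trans hBR).trans hRV)]
    exact W_mono hEB

end Cfsg.Agent.H32.SFB
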