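import Mathlib
import Cfsg.Prelude.Def_Local
import Cfsg.Prelude.Def_CaseTheorems
import Cfsg.Agent.H36.PConstr
import Cfsg.Agent.H32.SFRank
import Cfsg.Agent.Cop.Basic
import Cfsg.Agent.Solv.Frattini
import Cfsg.Agent.H49.Core
import Cfsg.Agent.S0016

/-!
A group of characteristic 2 containing an elementary abelian subgroup of order 8 has `O_2` of
2-rank at least 2.
-/

set_option autoImplicit false
set_option linter.all false

namespace Cfsg.Agent.H32.SE

open Subgroup
open Cfsg.Agent.H32.SFB

universe u

theorem quat_closure (m : ℕ) : ∃ a b : QuaternionGroup m, Subgroup.closure {a, b} = ⊤ := by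
  refine ⟨QuaternionGroup.a 1, QuaternionGroup.xa 0, ?_⟩
  rw [eq_top_iff]
  have ha : (QuaternionGroup.a 1 : QuaternionGroup m) ∈ Subgroup.closure
      ({QuaternionGroup.a 1, QuaternionGroup.xa 0} : Set (QuaternionGroup m)) :=
    Subgroup.subset_closure (by simp)
  have hx : (QuaternionGroup.xa 0 : QuaternionGroup m) ∈ Subgroup.closure
      ({QuaternionGroup.a 1, QuaternionGroup.xa 0} : Set (QuaternionGroup m)) :=
    Subgroup.subset_closure (by simp)
  have hai : ∀ i : ZMod (2 * m), (QuaternionGroup.a i : QuaternionGroup m) ∈ Subgroup.closure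
      ({QuaternionGroup.a 1, QuaternionGroup.xa 0} : Set (QuaternionGroup m)) := by
    intro i
    have h1 : ∀ k : ℕ, (QuaternionGroup.a (k : ZMod (2 * m)) : QuaternionGroup m) =
        (QuaternionGroup.a 1) ^ k := by
      intro k
      induction k with
      | zero => simp
      | succ k ih =>
        rw [pow_succ, ← ih, QuaternionGroup.a_mul_a]
        push_cast
        rfl
    obtain ⟨k, rfl⟩ : ∃ k : ℤ, ((k : ℤ) : ZMod (2 * m)) = i := ZMod.intCast_surjective i
    rcases Int.eq_nat_or_neg k with ⟨n, rfl | rfl⟩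
    · rw [Int.cast_natCast, h1]
      exact pow_mem ha n
    · have : (QuaternionGroup.a (((-(n : ℤ)) : ℤ) : ZMod (2 * m)) : QuaternionGroup m) =
          (QuaternionGroup.a (n : ZMod (2 * m)))⁻¹ := by
        rw [eq_inv_iff_mul_eq_one, QuaternionGroup.a_mul_a]
        push_cast
        rw [neg_add_cancel]
        rfl
      rw [this, h1]
      exact inv_mem (pow_mem ha n)
  rintro (i | i) _
  · exact hai i
  · have : (QuaternionGroup.xa i : QuaternionGroup m) = QuaternionGroup.xa 0 * QuaternionGroup.a i := by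
      rw [QuaternionGroup.xa_mul_a, zero_add]
    rw [this]
    exact mul_mem hx (hai i)

/-- A 2-group of 2-rank at most one is generated by two elements. -/
theorem exists_two_gen {P : Type u} [Group P] [Finite P] (hP : IsPGroup 2 P) (hr : Cfsg.PRankLE 2 1 P) :
    ∃ a b : P, Subgroup.closure {a, b} = ⊤ := by
  haveI : Fact (Nat.Prime 2) := ⟨Nat.prime_two⟩
  rcases subsingleton_or_nontrivial P with hs | hn
  · exact ⟨1, 1, Subsingleton.elim _ _⟩
  · have hc : 2 ∣ Nat.card (Subgroup.center P) := by
      haveI := hP.center_nontrivial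
      obtain ⟨n, hn⟩ := IsPGroup.iff_card.1 (hP.to_subgroup (Subgroup.center P))
      rcases n with _ | n
      · exfalso
        rw [pow_zero, Subgroup.card_eq_one] at hn
        exact (Subgroup.nontrivial_iff_ne_bot _).1 this hn
      · rw [hn]; exact dvd_pow_self 2 (Nat.succ_ne_zero n)
    obtain ⟨z, hz⟩ := exists_prime_orderOf_dvd_card' 2 hc
    have hz2 : orderOf (z : P) = 2 := by rwa [Subgroup.orderOf_coe]
    have hzc : ∀ x : P, x * z = z * x := fun x => (Subgroup.mem_center_iff.1 z.2 x)
    have hsq : (z : P) ^ 2 = 1 := by rw [← hz2]; exact pow_orderOf_eq_one _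
    have key : ∀ H : Subgroup P, Nat.card H = 2 → H = Subgroup.zpowers (z : P) := by
      intro H hH
      have hHe : Cfsg.IsElementaryAbelian 2 H := by
        refine ⟨?_, ?_⟩
        · haveI : IsCyclic H := isCyclic_of_prime_card hH
          exact ⟨⟨fun a b => (IsCyclic.commGroup (α := H)).mul_comm a b⟩⟩
        · intro a ha
          have h1 : (⟨a, ha⟩ : H) ^ 2 = 1 := by rw [← hH]; exact pow_card_eq_one'
          exact congrArg Subtype.val h1
      have h1 : Cfsg.IsElementaryAbelian 2 (Subgroup.zpowers (z : P)) := elem_zpowers hsq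
      have h2 : Cfsg.IsElementaryAbelian 2 (H ⊔ Subgroup.zpowers (z : P)) := by
        apply elem_sup hHe h1
        rintro a _ _ ⟨n, rfl⟩
        exact (((show Commute a (z : P) from hzc a).zpow_right n).eq)
      have h3 : Nat.card ↥(H ⊔ Subgroup.zpowers (z : P)) ≤ 2 := by
        have := hr (H ⊔ Subgroup.zpowers (z : P)) h2.1 h2.2
        simpa using this
      have h4 : H = H ⊔ Subgroup.zpowers (z : P) :=
        Subgroup.eq_of_le_of_card_ge le_sup_left (by rw [hH]; exact h3)
      have h5 : Subgroup.zpowers (z : P) = H ⊔ Subgroup.zpowers (z : P) :=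
        Subgroup.eq_of_le_of_card_ge le_sup_right (by rw [Nat.card_zpowers, hz2]; exact h3)
      rw [h5]; exact h4
    rcases S0016.result 2 hP (fun H K hH hK => (key H hH).trans (key K hK).symm) with h | ⟨-, n, ⟨e⟩⟩
    · obtain ⟨g, hg⟩ := h.exists_generator
      refine ⟨g, g, ?_⟩
      rw [Set.pair_eq_singleton, ← Subgroup.zpowers_eq_closure, eq_top_iff]
      exact fun x _ => hg x
    · obtain ⟨a, b, hab⟩ := quat_closure (2 ^ n)
      refine ⟨e.symm a, e.symm b, ?_⟩
      have h1 : (Subgroup.closure {a, b}).map e.symm.toMonoidHom = ⊤ := by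
        rw [hab]
        exact Subgroup.map_top_of_surjective _ e.symm.surjective
      rw [MonoidHom.map_closure, Set.image_pair] at h1
      exact h1

theorem index_frattini_le {P : Type u} [Group P] [Finite P] (hP : IsPGroup 2 P) (hr : Cfsg.PRankLE 2 1 P) :
    (frattini P).index ≤ 4 := by
  haveI : Fact (Nat.Prime 2) := ⟨Nat.prime_two⟩
  obtain ⟨a, b, hab⟩ := exists_two_gen hP hr
  obtain ⟨n, hn⟩ := IsPGroup.iff_card.1 hP
  obtain ⟨k, hk, hk2⟩ := (Nat.dvd_prime_pow Nat.prime_two).1 (hn ▸ (frattini P).index_dvd_card)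
  have h1 := (Cfsg.Agent.Solv.burnside_basis hP hk2 {a, b} hab).2
  have h2 : ({a, b} : Set P).ncard ≤ 2 := Set.ncard_insert_le a {b} |>.trans (by simp)
  rw [hk2]
  calc 2 ^ k ≤ 2 ^ 2 := Nat.pow_le_pow_right (by norm_num) (h1.trans h2)
    _ = 4 := by norm_num

/-- automorphism groups of groups of order at most 4 -/
theorem card_mulAut_dvd {V : Type u} [Group V] [Finite V] (h : Nat.card V ≤ 4) : Nat.card (MulAut V) ∣ 6 := by
  classical
  haveI := Fintype.ofFinite V
  let f : MulAut V →* Equiv.Perm {v : V // v ≠ 1} :=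
    { toFun := fun α => (α.toEquiv).subtypeEquiv (fun v => by
        constructor
        · intro h1 h2; exact h1 (α.injective (by rw [map_one]; exact h2))
        · rintro h1 rfl; exact h1 (map_one α))
      map_one' := by ext v; rfl
      map_mul' := fun α β => by ext v; rfl }
  have hf : Function.Injective f := by
    intro α β hab
    ext v
    by_cases hv : v = 1
    · rw [hv, map_one, map_one]
    · have := congrArg (fun σ : Equiv.Perm {v : V // v ≠ 1} => ((σ ⟨v, hv⟩ : {v : V // v ≠ 1}) : V)) hab
      exact this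
  have h1 : Nat.card (MulAut V) ∣ Nat.card (Equiv.Perm {v : V // v ≠ 1}) := Subgroup.card_dvd_of_injective f hf
  refine h1.trans ?_
  rw [Nat.card_eq_fintype_card, Fintype.card_perm]
  have h2 : Fintype.card {v : V // v ≠ 1} ≤ 3 := by
    rw [Fintype.card_subtype_compl, Fintype.card_subtype_eq]
    rw [Nat.card_eq_fintype_card] at h
    omega
  exact (Nat.factorial_dvd_factorial h2).trans (by norm_num [Nat.factorial])

theorem card_two_of_dvd {n k : ℕ} (h : n = 2 ^ k) (h6 : n ∣ 6) : n ≤ 2 := by
  subst h
  rcases k with _ | _ | k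
  · norm_num
  · norm_num
  · exfalso
    have : 4 ∣ 6 := (by rw [pow_succ, pow_succ]; exact ⟨2 ^ k, by ring⟩ : 4 ∣ 2 ^ (k + 2)).trans h6
    norm_num at this

/-- `O_2` of a group of characteristic 2 and 2-rank at least 3 has 2-rank at least 2. -/
theorem rank_pCore {Y : Type u} [Group Y] [Finite Y] (hY : H36.PConstr.CharP 2 Y) {E : Subgroup Y}
    (hE : Cfsg.IsElementaryAbelian 2 E) (h8 : 2 ^ 3 ≤ Nat.card E) : ¬ Cfsg.PRankLE 2 1 ↥(Cfsg.pCore 2 Y) := by
  haveI : Fact (Nat.Prime 2) := ⟨Nat.prime_two⟩
  intro hr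
  set P := Cfsg.pCore 2 Y with hPdef
  have hPn : P.Normal := H49.pCore_normal' 2
  have hPp : IsPGroup 2 P := H49.pCore_isPGroup 2
  set D : Subgroup Y := (frattini P).map P.subtype with hD
  have hDn : D.Normal := by
    have h1 := H49.normalizer_le_normalizer_map_of_char P (frattini P)
    rw [Subgroup.normalizer_eq_top_iff.2 hPn, top_le_iff, Subgroup.normalizer_eq_top_iff] at h1
    exact h1
  haveI := hDn
  set q := QuotientGroup.mk' D with hq
  have hqs : Function.Surjective q := QuotientGroup.mk'_surjective D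
  haveI hPbn : (P.map q).Normal := hPn.map q hqs
  have hcardPb : Nat.card (P.map q) ≤ 4 := by
    have h1 : Nat.card (P.map q) = (frattini P).index := by
      have h2 := Subgroup.relIndex_map_map q ⊥ P
      rw [bot_sup_eq, Subgroup.map_bot, Subgroup.relIndex_bot_left, hq, QuotientGroup.ker_mk'] at h2
      rw [h2]
      have hDP : D ≤ P := by rw [hD]; exact Subgroup.map_subtype_le _
      rw [sup_eq_left.2 hDP]
      rw [Subgroup.relIndex, hD]
      congr 1
      rw [Subgroup.subgroupOf, Subgroup.comap_map_eq_self_of_injective P.subtype_injective]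
    rw [h1]
    exact index_frattini_le hPp hr
  let f : Y →* MulAut (P.map q) := (MulAut.conjNormal (H := P.map q)).comp q
  have hker : f.ker ≤ P := by
    have hKp : IsPGroup 2 f.ker := by
      rw [IsPGroup.iff_card]
      by_contra hno
      have : ∃ r : ℕ, r.Prime ∧ r ≠ 2 ∧ r ∣ Nat.card f.ker := by
        by_contra hcon
        push Not at hcon
        exact hno ⟨_, Nat.eq_prime_pow_of_unique_prime_dvd Nat.card_pos.ne' (fun {d} hd hdvd => by
          by_contra h2
          exact hcon d hd h2 hdvd)⟩
      obtain ⟨r, hr1, hr2, hrd⟩ := this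
      haveI : Fact r.Prime := ⟨hr1⟩
      obtain ⟨y, hy⟩ := exists_prime_orderOf_dvd_card' r hrd
      have hy' : orderOf (y : Y) = r := by rwa [Subgroup.orderOf_coe]
      have hA : Subgroup.zpowers (y : Y) ≤ Subgroup.centralizer (P : Set Y) := by
        apply Cop.le_centralizer_of_frattini
        · rw [Subgroup.normalizer_eq_top_iff.2 hPn]; exact le_top
        · rw [Nat.card_zpowers, hy']
          obtain ⟨n, hn⟩ := IsPGroup.iff_card.1 (hPp.to_subgroup (frattini P))
          rw [hn]
          exact Nat.Coprime.pow_right n ((Nat.coprime_primes hr1 Nat.prime_two).2 hr2)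
        · intro a ha k hk
          have hak : a ∈ f.ker := (Subgroup.zpowers_le.2 y.2) ha
          have h1 : f a = 1 := hak
          have h2 : f a ⟨q k, Subgroup.mem_map_of_mem q hk⟩ = ⟨q k, Subgroup.mem_map_of_mem q hk⟩ := by
            rw [h1]; rfl
          have h3 : q a * q k * (q a)⁻¹ = q k := by
            have := congrArg Subtype.val h2
            simpa [f, MulAut.conjNormal_apply] using this
          have h4 : q (a * k * a⁻¹ * k⁻¹) = 1 := by
            rw [map_mul, map_mul, map_mul, map_inv, map_inv, h3, mul_inv_cancel]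
          have h5 : a * k * a⁻¹ * k⁻¹ ∈ q.ker := h4
          rwa [hq, QuotientGroup.ker_mk'] at h5
      have hyP : (y : Y) ∈ P := hY (hA (Subgroup.mem_zpowers _))
      obtain ⟨n, hn⟩ := IsPGroup.iff_orderOf.1 hPp ⟨y, hyP⟩
      rw [← Subgroup.orderOf_coe, Subtype.coe_mk, hy'] at hn
      have : r = 2 := by
        rcases n with _ | n
        · exact absurd hn hr1.ne_one
        · exact (Nat.prime_dvd_prime_iff_eq Nat.prime_two hr1).1 (hn ▸ dvd_pow_self 2 (Nat.succ_ne_zero n)) |>.symm
      exact hr2 this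
    exact H49.le_pCore inferInstance hKp
  -- the kernel on E
  have h1 : Nat.card ↥(E ⊓ f.ker) ≤ 2 := by
    by_contra hlt
    push Not at hlt
    have hel : Cfsg.IsElementaryAbelian 2 (E ⊓ f.ker) := SigF.elem_mono hE inf_le_left
    exact not_rankLE_of_elem hel (inf_le_right.trans hker) (pow_succ_le_of_lt (k := 1) hel (by simpa using hlt)) hr
  have h2 : Nat.card (E.map f) ≤ 2 := by
    have h3 : IsPGroup 2 (E.map f) := (SigF.isPGroup_of_elem hE).map f
    obtain ⟨k, hk⟩ := IsPGroup.iff_card.1 h3
    exact card_two_of_dvd hk ((Subgroup.card_subgroup_dvd_card _).trans (card_mulAut_dvd hcardPb))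
  have h3 : Nat.card E = Nat.card (E.map f) * Nat.card ↥(E ⊓ f.ker) := by
    have h4 := Subgroup.card_mul_index ((f.comp E.subtype).ker)
    have h5 : (f.comp E.subtype).ker.index = Nat.card (E.map f) := by
      rw [Subgroup.index_ker, MonoidHom.range_comp, Subgroup.range_subtype]
    have h6 : Nat.card (f.comp E.subtype).ker = Nat.card ↥(E ⊓ f.ker) := by
      have : (f.comp E.subtype).ker = (E ⊓ f.ker).subgroupOf E := by
        ext x
        simp [Subgroup.mem_subgroupOf, MonoidHom.mem_ker]
      rw [this]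
      exact Nat.card_congr (Subgroup.subgroupOfEquivOfLe inf_le_left).toEquiv
    rw [h5, h6] at h4
    rw [← h4, mul_comm]
  have : Nat.card E ≤ 2 * 2 := by rw [h3]; exact Nat.mul_le_mul h2 h1
  omega

end Cfsg.Agent.H32.SE
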