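import Mathlib
import Cfsg.Prelude.Def_Local
import Cfsg.Prelude.Def_CaseTheorems
import Cfsg.Prelude.Def_Involutions
import Cfsg.Agent.H32.SEQ
import Cfsg.Agent.H32.SFScn
import Cfsg.Agent.FourGraph.TwoCore
import Cfsg.Agent.H49.CoreGen
import Cfsg.Agent.ZJ.Core
import Cfsg.Agent.SigF.Gen
import Cfsg.Agent.Solv.Core
import Cfsg.Agent.SigF.OpPrimeP

/-!
A proper subgroup containing the 2-generated core is strongly embedded when the involution
centralizers are 2-constrained and every involution lies in an elementary abelian subgroup of order 8.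
-/

set_option autoImplicit false
set_option linter.all false

namespace Cfsg.Agent.H32.SE

open Subgroup SigF
open Cfsg.Agent.H32.SFB
open scoped Pointwise

universe u

theorem pRankLE_of_injective {A B : Type*} [Group A] [Group B] {p k : ℕ} (f : A →* B)
    (hf : Function.Injective f) (h : Cfsg.PRankLE p k B) : Cfsg.PRankLE p k A := by
  intro V hV hV2
  rw [← Subgroup.card_map_of_injective hf]
  apply h
  · refine ⟨⟨?_⟩⟩
    rintro ⟨_, x, hx, rfl⟩ ⟨_, y, hy, rfl⟩
    apply Subtype.ext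
    show f x * f y = f y * f x
    rw [← map_mul, ← map_mul]
    exact congrArg f (congrArg Subtype.val (hV.is_comm.comm (⟨x, hx⟩ : V) ⟨y, hy⟩))
  · rintro _ ⟨x, hx, rfl⟩
    rw [← map_pow, hV2 x hx, map_one]

variable {X : Type u} [Group X] [Finite X]

/-- the local step: a 2-constrained group is generated by the normalizers of the rank two subgroups
of a Sylow 2-subgroup containing an elementary abelian subgroup of order 8 -/
theorem local_top (hc : Cfsg.IsPConstrained 2 X) {E : Subgroup X} (hE : Cfsg.IsElementaryAbelian 2 E)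
    (h8 : 2 ^ 3 ≤ Nat.card E) (T : Sylow 2 X) (hET : E ≤ (T : Subgroup X)) (M : Subgroup X)
    (hTM : (T : Subgroup X) ≤ M)
    (hM : ∀ B : Subgroup X, B ≤ (T : Subgroup X) → ¬ Cfsg.PRankLE 2 1 ↥B →
      Subgroup.normalizer (B : Set X) ≤ M) : M = ⊤ := by
  haveI : Fact (Nat.Prime 2) := ⟨Nat.prime_two⟩
  set K := Cfsg.pPrimeCore 2 X with hK
  haveI hKn : K.Normal := by rw [hK]; infer_instance
  haveI hLn : (Cfsg.pPrimePCore 2 X).Normal := inferInstance
  have hKc : (Nat.card K).Coprime 2 := Solv.pPrimeCore_card_coprime 2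
  have hK2 : ¬ 2 ∣ Nat.card K := by
    intro h
    have := Nat.Coprime.eq_one_of_dvd hKc.symm h
    omega
  -- `O(X) ≤ M`
  have hKM : K ≤ M := by
    have h1 := SigF.eq_of_hyperplane_fixed_le (p := 2) (A := E) (K := K) (H := K ⊓ M) hE hK2
      (by rw [Subgroup.normalizer_eq_top]; exact le_top) inf_le_left (by
        intro B hBE hi
        refine le_inf inf_le_left ?_
        have h2 : 2 ^ 2 ≤ Nat.card B := SigF.card_ge_of_relIndex h8 hBE (Nat.le_of_dvd (by norm_num) hi)
        have hBe : Cfsg.IsElementaryAbelian 2 B := SigF.elem_mono hE hBE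
        have h3 : ¬ Cfsg.PRankLE 2 1 ↥B := by
          intro h
          exact not_rankLE_of_elem hBe le_rfl (by norm_num; omega) h
        refine inf_le_right.trans ((Subgroup.centralizer_le_normalizer _).trans
          (hM B (hBE.trans hET) h3)))
    rw [← h1]
    exact inf_le_right
  obtain ⟨P, hP⟩ := ZJ.exists_sylow_map_eq_inf T (Cfsg.pPrimePCore 2 X)
  have hmap := H36.PConstr.map_sylow_pPrimePCore (p := 2) P
  rw [hP] at hmap
  set P' : Subgroup X := (T : Subgroup X) ⊓ Cfsg.pPrimePCore 2 X with hP'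
  -- the rank of `P'`
  have hrank : ¬ Cfsg.PRankLE 2 1 ↥P' := by
    intro hr
    have hY : H36.PConstr.CharP 2 (X ⧸ K) := H36.PConstr.isPConstrained_iff.1 hc
    have hinjE : Function.Injective ((QuotientGroup.mk' K).comp E.subtype) := by
      rw [← MonoidHom.ker_eq_bot_iff, eq_bot_iff]
      intro e he
      have he' : (e : X) ∈ K := by
        rw [MonoidHom.mem_ker, MonoidHom.comp_apply] at he
        exact (QuotientGroup.eq_one_iff _).1 he
      rw [Subgroup.mem_bot]
      by_contra hne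
      apply hK2
      have ho : orderOf (e : X) = 2 := orderOf_of_elem hE e.2 (fun h => hne (Subtype.ext h))
      rw [← ho]
      have := orderOf_dvd_natCard (⟨(e : X), he'⟩ : K)
      rwa [Subgroup.orderOf_mk] at this
    have hEe : Cfsg.IsElementaryAbelian 2 (E.map (QuotientGroup.mk' K)) := elem_map hE _
    have hEc : 2 ^ 3 ≤ Nat.card (E.map (QuotientGroup.mk' K)) := by
      have h1 : E.map (QuotientGroup.mk' K) = ((QuotientGroup.mk' K).comp E.subtype).range := by
        rw [MonoidHom.range_comp, Subgroup.range_subtype]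
      rw [h1, ← Nat.card_congr (MonoidHom.ofInjective hinjE).toEquiv]
      exact h8
    apply rank_pCore hY hEe hEc
    rw [← hmap]
    -- `P' ≃ image`
    have hinj : Function.Injective ((QuotientGroup.mk' K).comp P'.subtype) := by
      rw [← MonoidHom.ker_eq_bot_iff, eq_bot_iff]
      intro e he
      have he' : (e : X) ∈ K := by
        rw [MonoidHom.mem_ker, MonoidHom.comp_apply] at he
        exact (QuotientGroup.eq_one_iff _).1 he
      rw [Subgroup.mem_bot]
      by_contra hne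
      apply hK2
      have hT2 : IsPGroup 2 (Subgroup.zpowers (e : X)) :=
        T.2.to_le (Subgroup.zpowers_le.2 e.2.1)
      obtain ⟨n, hn⟩ := IsPGroup.iff_card.1 hT2
      rcases n with _ | n
      · exfalso
        rw [pow_zero, Subgroup.card_eq_one, Subgroup.zpowers_eq_bot] at hn
        exact hne (Subtype.ext hn)
      · have h5 : Nat.card (Subgroup.zpowers (e : X)) ∣ Nat.card K :=
          Subgroup.card_dvd_of_le (Subgroup.zpowers_le.2 he')
        rw [hn] at h5
        exact (dvd_pow_self 2 (Nat.succ_ne_zero n)).trans h5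
    have h1 : P'.map (QuotientGroup.mk' K) = ((QuotientGroup.mk' K).comp P'.subtype).range := by
      rw [MonoidHom.range_comp, Subgroup.range_subtype]
    rw [h1]
    exact pRankLE_of_injective (MonoidHom.ofInjective hinj).symm.toMonoidHom
      (MonoidHom.ofInjective hinj).symm.injective hr
  have hN : Subgroup.normalizer (P' : Set X) ≤ M := hM P' inf_le_left hrank
  rw [eq_top_iff]
  intro x _
  obtain ⟨n, hn, l, hl, rfl⟩ := ZJ.exists_mul_of_frattini T (Cfsg.pPrimePCore 2 X) x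
  refine mul_mem (hN hn) ?_
  have hl' : (QuotientGroup.mk' K) l ∈ Cfsg.pCore 2 (X ⧸ K) := hl
  rw [← hmap] at hl'
  obtain ⟨q, hq, hql⟩ := hl'
  have h3 : q⁻¹ * l ∈ K := QuotientGroup.eq.1 hql
  have h4 : l = q * (q⁻¹ * l) := by group
  rw [h4]
  exact mul_mem (hTM hq.1) (hKM h3)

variable {G : Type u} [Group G] [Finite G]

/-- A subgroup controls the rank two subgroups. -/
theorem mem_of_conj_le (S : Sylow 2 G) {M : Subgroup G} (hSM : (S : Subgroup G) ≤ M)
    (hM : ∀ B : Subgroup G, B ≤ (S : Subgroup G) → ¬ Cfsg.PRankLE 2 1 ↥B →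
      Subgroup.normalizer (B : Set G) ≤ M)
    {V : Subgroup G} {g : G} (hVp : IsPGroup 2 V) (hV : ¬ Cfsg.PRankLE 2 1 ↥V) (hVM : V ≤ M)
    (hgV : MulAut.conj g • V ≤ M) : g ∈ M := by
  haveI : Fact (Nat.Prime 2) := ⟨Nat.prime_two⟩
  have hcore : FourGraph.twoCore (S : Subgroup G) ≤ M := iSup_le fun Q => hM Q.1 Q.2.1 Q.2.2
  -- Sylow in `M`
  have hSy : ∀ W : Subgroup G, IsPGroup 2 W → W ≤ M → ∃ m ∈ M, MulAut.conj m • W ≤ (S : Subgroup G) := by
    intro W hW hWM
    obtain ⟨n, hn, T, hTM, hT, hST, hWT⟩ := H9.exists_common_pgroup (N := M) S.2 hW hSM hWM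
    refine ⟨n, hn, ?_⟩
    have : T = (S : Subgroup G) := S.3 hT hST
    rwa [this] at hWT
  obtain ⟨m, hm, hmV⟩ := hSy V hVp hVM
  obtain ⟨n, hn, hnV⟩ := hSy _ (H9.isPGroup_conj_smul g hVp) hgV
  have hrk : ¬ Cfsg.PRankLE 2 1 ↥(MulAut.conj m • V : Subgroup G) := by
    rw [FourGraph.not_pRankLE_subgroup_iff] at hV ⊢
    obtain ⟨U, hU, hUV⟩ := hV
    exact ⟨MulAut.conj m • U, FourGraph.isKleinFour_conj hU m, Subgroup.map_mono hUV⟩
  have h1 := FourGraph.mem_twoCore_of_conj_le S _ (MulAut.conj m • V) (n * g * m⁻¹) rfl hmV hrk (by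
    rw [H9.conj_smul_smul, inv_mul_cancel_right, ← H9.conj_smul_smul]
    exact hnV)
  have h2 : n * g * m⁻¹ ∈ M := hcore h1
  have h3 : g = n⁻¹ * (n * g * m⁻¹) * m := by group
  rw [h3]
  exact mul_mem (mul_mem (inv_mem hn) h2) hm

theorem normalizer_le_of (S : Sylow 2 G) {M : Subgroup G} (hSM : (S : Subgroup G) ≤ M)
    (hM : ∀ B : Subgroup G, B ≤ (S : Subgroup G) → ¬ Cfsg.PRankLE 2 1 ↥B →
      Subgroup.normalizer (B : Set G) ≤ M)
    {V : Subgroup G} (hVp : IsPGroup 2 V) (hV : ¬ Cfsg.PRankLE 2 1 ↥V) (hVM : V ≤ M) :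
    Subgroup.normalizer (V : Set G) ≤ M := by
  intro g hg
  exact mem_of_conj_le S hSM hM hVp hV hVM (by rw [H9.conj_smul_eq_of_mem_normalizer hg]; exact hVM)

/-- every involution of `S` lies in an elementary abelian subgroup of order at least 8 of `S` -/
def InEight (S : Subgroup G) : Prop :=
  ∀ t ∈ S, orderOf t = 2 → ∃ E : Subgroup G, t ∈ E ∧ E ≤ S ∧ Cfsg.IsElementaryAbelian 2 E ∧ 2 ^ 3 ≤ Nat.card E

/-- involution centralizers are 2-constrained -/
def CentConstr (G : Type u) [Group G] : Prop :=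
  ∀ t : G, orderOf t = 2 → Cfsg.IsPConstrained 2 ↥(Subgroup.centralizer ({t} : Set G))

theorem rank_of_eight {E : Subgroup G} (hE : Cfsg.IsElementaryAbelian 2 E) (h8 : 2 ^ 3 ≤ Nat.card E) :
    ¬ Cfsg.PRankLE 2 1 ↥E := by
  intro h
  haveI : Fact (Nat.Prime 2) := ⟨Nat.prime_two⟩
  exact not_rankLE_of_elem hE le_rfl (by norm_num; omega) h

theorem exists_eight (S : Sylow 2 G) {M : Subgroup G} (hSM : (S : Subgroup G) ≤ M)
    (h8 : InEight (S : Subgroup G)) {t : G} (ht : t ∈ M) (ht2 : orderOf t = 2) :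
    ∃ E : Subgroup G, t ∈ E ∧ E ≤ M ∧ Cfsg.IsElementaryAbelian 2 E ∧ 2 ^ 3 ≤ Nat.card E := by
  haveI : Fact (Nat.Prime 2) := ⟨Nat.prime_two⟩
  have hz : IsPGroup 2 (Subgroup.zpowers t) := by
    rw [IsPGroup.iff_card]
    exact ⟨1, by rw [Nat.card_zpowers, ht2, pow_one]⟩
  obtain ⟨n, hn, T, hTM, hT, hST, hWT⟩ := H9.exists_common_pgroup (N := M) S.2 hz hSM
    (Subgroup.zpowers_le.2 ht)
  have hTS : T = (S : Subgroup G) := S.3 hT hST
  rw [hTS] at hWT
  have h1 : n * t * n⁻¹ ∈ (S : Subgroup G) := H9.conj_smul_le_iff.1 hWT t (Subgroup.mem_zpowers t)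
  have h2 : orderOf (n * t * n⁻¹) = 2 := by
    rw [← ht2]
    exact (MulAut.conj n).orderOf_eq t
  obtain ⟨E, htE, hES, hE, hE8⟩ := h8 _ h1 h2
  refine ⟨E.map (MulAut.conj n⁻¹).toMonoidHom, ⟨n * t * n⁻¹, htE, ?_⟩, ?_, elem_map hE _, ?_⟩
  · show n⁻¹ * (n * t * n⁻¹) * n⁻¹⁻¹ = t
    group
  · rintro _ ⟨e, he, rfl⟩
    exact mul_mem (mul_mem (inv_mem hn) (hSM (hES he))) (inv_mem (inv_mem hn))
  · rwa [Subgroup.card_map_of_injective (MulAut.conj n⁻¹).injective]

/-- involution centralizers lie in `M` -/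
theorem centralizer_le (hc : CentConstr G) (S : Sylow 2 G) {M : Subgroup G} (hSM : (S : Subgroup G) ≤ M)
    (hM : ∀ B : Subgroup G, B ≤ (S : Subgroup G) → ¬ Cfsg.PRankLE 2 1 ↥B →
      Subgroup.normalizer (B : Set G) ≤ M) (h8 : InEight (S : Subgroup G))
    {t : G} (ht : t ∈ M) (ht2 : orderOf t = 2) : Subgroup.centralizer ({t} : Set G) ≤ M := by
  haveI : Fact (Nat.Prime 2) := ⟨Nat.prime_two⟩
  obtain ⟨E, htE, hEM, hE, hE8⟩ := exists_eight S hSM h8 ht ht2
  set C := Subgroup.centralizer ({t} : Set G) with hCdef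
  have hEC : E ≤ C := le_centralizer_of_elem hE htE
  have hEp : IsPGroup 2 E := SigF.isPGroup_of_elem hE
  have hE'p : IsPGroup 2 (E.subgroupOf C) := hEp.comap_of_injective _ (Subgroup.subtype_injective C)
  obtain ⟨T, hT⟩ := hE'p.exists_le_sylow
  have hE'e : Cfsg.IsElementaryAbelian 2 (E.subgroupOf C) := by
    refine ⟨⟨⟨?_⟩⟩, ?_⟩
    · rintro ⟨a, ha⟩ ⟨b, hb⟩
      apply Subtype.ext
      apply Subtype.ext
      exact SigF.elem_comm hE ha hb
    · intro a ha
      exact Subtype.ext (hE.2 _ ha)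
  have hE'8 : 2 ^ 3 ≤ Nat.card (E.subgroupOf C) := by
    rw [Nat.card_congr (Subgroup.subgroupOfEquivOfLe hEC).toEquiv]
    exact hE8
  -- `T ≤ M`
  have hTG : IsPGroup 2 ((T : Subgroup C).map C.subtype) := T.2.map _
  have hETG : E ≤ (T : Subgroup C).map C.subtype := by
    intro e he
    exact ⟨⟨e, hEC he⟩, hT (by exact he), rfl⟩
  obtain ⟨x, hx⟩ := H9.exists_conj_smul_le_sylow hTG S
  have hxM : x ∈ M := mem_of_conj_le S hSM hM hEp (rank_of_eight hE hE8) hEM
    ((Subgroup.map_mono hETG).trans (hx.trans hSM))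
  have hTM : (T : Subgroup C).map C.subtype ≤ M := by
    intro y hy
    have h1 : x * y * x⁻¹ ∈ M := hSM (H9.conj_smul_le_iff.1 hx y hy)
    have h2 : y = x⁻¹ * (x * y * x⁻¹) * x := by group
    rw [h2]
    exact mul_mem (mul_mem (inv_mem hxM) h1) hxM
  have htop := local_top (hc t ht2) hE'e hE'8 T hT (M.subgroupOf C)
    (fun y hy => hTM ⟨y, hy, rfl⟩) (by
      intro B hB hBr y hy
      have hBp : IsPGroup 2 (B.map C.subtype) := (T.2.to_le hB).map _
      have hBr' : ¬ Cfsg.PRankLE 2 1 ↥(B.map C.subtype) := by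
        intro h
        apply hBr
        exact pRankLE_of_injective (B.equivMapOfInjective C.subtype C.subtype_injective).toMonoidHom
          (B.equivMapOfInjective C.subtype C.subtype_injective).injective h
      have hBM : B.map C.subtype ≤ M := (Subgroup.map_mono hB).trans hTM
      have hN := normalizer_le_of S hSM hM hBp hBr' hBM
      show (y : G) ∈ M
      apply hN
      have := Subgroup.le_normalizer_map (H := B) C.subtype ⟨y, hy, rfl⟩
      exact this)
  intro y hy
  have : (⟨y, hy⟩ : C) ∈ M.subgroupOf C := by rw [htop]; trivial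
  exact this

/-- strong embedding -/
theorem stronglyEmbedded (hc : CentConstr G) (S : Sylow 2 G) {M : Subgroup G} (hSM : (S : Subgroup G) ≤ M)
    (hM : ∀ B : Subgroup G, B ≤ (S : Subgroup G) → ¬ Cfsg.PRankLE 2 1 ↥B →
      Subgroup.normalizer (B : Set G) ≤ M) (h8 : InEight (S : Subgroup G)) (hS : (S : Subgroup G) ≠ ⊥)
    (hMt : M ≠ ⊤) : Cfsg.IsStronglyEmbedded M := by
  haveI : Fact (Nat.Prime 2) := ⟨Nat.prime_two⟩
  refine ⟨hMt, ?_, ?_⟩
  · have h1 : Nat.card (S : Subgroup G) ∣ Nat.card M := Subgroup.card_dvd_of_le hSM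
    obtain ⟨n, hn⟩ := IsPGroup.iff_card.1 S.2
    rcases n with _ | n
    · rw [pow_zero, Subgroup.card_eq_one] at hn
      exact absurd hn hS
    · rw [hn] at h1
      exact even_iff_two_dvd.2 ((dvd_pow_self 2 (Nat.succ_ne_zero n)).trans h1)
  · intro g hg
    rw [← Nat.not_even_iff_odd]
    intro hev
    apply hg
    obtain ⟨t, ht⟩ := exists_prime_orderOf_dvd_card' 2 hev.two_dvd
    obtain ⟨⟨t, htM, s, hsM, hst⟩, ht'⟩ : ∃ t : ↥(M ⊓ M.map (MulAut.conj g).toMonoidHom), orderOf t = 2 :=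
      ⟨t, ht⟩
    have ht' : orderOf t = 2 := by rw [← ht', ← Subgroup.orderOf_coe]
    have hst' : g * s * g⁻¹ = t := hst
    have hs2 : orderOf s = 2 := by
      rw [← ht', ← hst']
      exact ((MulAut.conj g).orderOf_eq s).symm
    obtain ⟨E, htE, hEM, hE, hE8⟩ := exists_eight S hSM h8 htM ht'
    have hEC : E ≤ Subgroup.centralizer ({t} : Set G) := le_centralizer_of_elem hE htE
    have hCs := centralizer_le hc S hSM hM h8 hsM hs2
    have hg' : g⁻¹ ∈ M := by
      apply mem_of_conj_le S hSM hM (SigF.isPGroup_of_elem hE) (rank_of_eight hE hE8) hEM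
      rw [H9.conj_smul_le_iff]
      intro e he
      apply hCs
      rw [Subgroup.mem_centralizer_singleton_iff]
      have h1 : e * t = t * e := Subgroup.mem_centralizer_singleton_iff.1 (hEC he)
      have h2 : s = g⁻¹ * t * g := by rw [← hst']; group
      rw [h2]
      calc g⁻¹ * e * g⁻¹⁻¹ * (g⁻¹ * t * g) = g⁻¹ * (e * t) * g := by group
        _ = g⁻¹ * (t * e) * g := by rw [h1]
        _ = (g⁻¹ * t * g) * (g⁻¹ * e * g⁻¹⁻¹) := by group
    simpa using inv_mem hg'

end Cfsg.Agent.H32.SE
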