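import Mathlib
import Cfsg.Prelude.Def_Local
import Cfsg.Prelude.Def_CaseTheorems
import Cfsg.Prelude.Def_Involutions
import Cfsg.Agent.H32.SEEmb
import Cfsg.Agent.H32.SFConstr
import Cfsg.Agent.SigO.Con2

/-!
Groups with 2-constrained involution centralizers: the cores of the involution centralizers are trivial
(modulo `O(H) ≤ O(G)` for `H` strongly embedded in `G`).
-/

set_option autoImplicit false
set_option linter.all false

namespace Cfsg.Agent.H32.SE

open Subgroup SigF
open Cfsg.Agent.H32.SFB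
open scoped Pointwise

universe u

/-- the strongly embedded input -/
def StrongCore : Prop := ∀ (G : Type u) [Group G] [Finite G] (H : Subgroup G), Cfsg.IsStronglyEmbedded H →
  (Cfsg.oddCore ↥H).map H.subtype ≤ Cfsg.oddCore G

variable {G : Type u} [Group G] [Finite G]

theorem cc_complete (h : CentConstr G) {A : Subgroup G} (hA : Cfsg.IsElementaryAbelian 2 A)
    (hA3 : 2 ^ 3 ≤ Nat.card A) : Complete 2 (fun a : G => Cfsg.centralizerPPrimeCore 2 a) A := by
  haveI : Fact (Nat.Prime 2) := ⟨Nat.prime_two⟩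
  refine SigO.complete_two hA hA3 (fun a _ _ => Bal1.cppc_le a) (fun a _ _ => Bal1.cppc_not_dvd a)
    (fun a ha _ => Bal1.cppc_normal' (le_centralizer_of_elem hA ha)) ?_
  intro a ha h1 b hb h2
  exact Bal1.balance_of_pConstrained (SigF.elem_comm hA ha hb) (H49.isPGroup_zpowers_sq (hA.2 a ha))
    (h b (orderOf_of_elem hA hb h2))

theorem cc_mono (h : CentConstr G) {b z : G} {R : Subgroup G} (hR : IsPGroup 2 R) (hb : b ∈ R)
    (hz : z ∈ Subgroup.zpowers b) (hz2 : orderOf z = 2) :
    Cfsg.centralizerPPrimeCore 2 b ≤ Cfsg.centralizerPPrimeCore 2 z := by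
  haveI : Fact (Nat.Prime 2) := ⟨Nat.prime_two⟩
  obtain ⟨n, rfl⟩ := hz
  have hle : Subgroup.centralizer ({b} : Set G) ≤ Subgroup.centralizer ({b ^ n} : Set G) := by
    intro x hx
    rw [Subgroup.mem_centralizer_singleton_iff] at hx ⊢
    exact ((show Commute x b from hx).zpow_right n).eq
  apply Bal1.le_core_of_pConstrained (a := b) (h _ hz2)
  · rw [Subgroup.mem_centralizer_singleton_iff]
    exact ((Commute.refl b).zpow_right n).eq
  · exact hR.to_le (Subgroup.zpowers_le.2 hb)
  · exact (Bal1.cppc_le b).trans hle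
  · exact Bal1.cppc_le b
  · exact inf_le_right.trans (Bal1.centralizer_le_normalizer_cppc b)
  · exact Bal1.cppc_coprime b

theorem cc_W_eq (h : CentConstr G) {R V : Subgroup G} (hR : IsPGroup 2 R)
    (hV : Cfsg.IsElementaryAbelian 2 V) (hV3 : 2 ^ 3 ≤ Nat.card V) (hRV : R ≤ Subgroup.normalizer (V : Set G))
    {B : Subgroup G} (hBR : B ≤ R) (hB : ¬ Cfsg.PRankLE 2 1 ↥B) :
    W (fun a : G => Cfsg.centralizerPPrimeCore 2 a) B = W (fun a : G => Cfsg.centralizerPPrimeCore 2 a) V := by
  haveI : Fact (Nat.Prime 2) := ⟨Nat.prime_two⟩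
  obtain ⟨E, hEB, hE, hE2⟩ := exists_elem_of_rank hB
  have hcomp : ∀ A : Subgroup G, Cfsg.IsElementaryAbelian 2 A → 2 ^ 3 ≤ Nat.card A →
      Complete 2 (fun a : G => Cfsg.centralizerPPrimeCore 2 a) A := fun A hA hA3 => cc_complete h hA hA3
  apply le_antisymm
  · apply W_le
    intro b hb h1
    obtain ⟨z, hz, hz2⟩ := exists_inv_zpowers hR (hBR hb) h1
    refine (cc_mono h hR (hBR hb) hz hz2).trans ?_
    have h3 := inf_centralizer_eq hcomp hV hV3 (sq_of_order hz2).1 (sq_of_order hz2).2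
      (hRV ((Subgroup.zpowers_le.2 (hBR hb)) hz))
    rw [← h3]
    exact inf_le_left
  · rw [← W_eq_of_normal hcomp hV hV3 (fun g _ a _ _ => cppc_conj g a) hE hE2 ((hEB.trans hBR).trans hRV)]
    exact W_mono hEB

/-- The cores of the involution centralizers are trivial. -/
theorem core_trivial (hSE : StrongCore.{u}) (hc : CentConstr G) (hO : Cfsg.oddCore G = ⊥) (S : Sylow 2 G)
    (h8 : InEight (S : Subgroup G)) (hS : (S : Subgroup G) ≠ ⊥) (W0 : Subgroup G)
    (hW : ∀ B : Subgroup G, B ≤ (S : Subgroup G) → ¬ Cfsg.PRankLE 2 1 ↥B →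
      W (fun a : G => Cfsg.centralizerPPrimeCore 2 a) B = W0) {t : G} (ht : orderOf t = 2) :
    Cfsg.centralizerPPrimeCore 2 t = ⊥ := by
  haveI : Fact (Nat.Prime 2) := ⟨Nat.prime_two⟩
  -- an elementary abelian subgroup of order 8
  obtain ⟨s, hs⟩ : ∃ s : (S : Subgroup G), orderOf s = 2 := by
    apply exists_prime_orderOf_dvd_card' 2
    obtain ⟨n, hn⟩ := IsPGroup.iff_card.1 S.2
    rcases n with _ | n
    · rw [pow_zero, Subgroup.card_eq_one] at hn
      exact absurd hn hS
    · rw [hn]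
      exact dvd_pow_self 2 (Nat.succ_ne_zero n)
  obtain ⟨E, hsE, hES, hE, hE8⟩ := h8 s s.2 (by rwa [Subgroup.orderOf_coe])
  have hSr : ¬ Cfsg.PRankLE 2 1 ↥(S : Subgroup G) := FourGraph.not_pRankLE_of_le hES (rank_of_eight hE hE8)
  have hodd : ¬ 2 ∣ Nat.card W0 := by
    rw [← hW E hES (rank_of_eight hE hE8)]
    exact (cc_complete hc hE hE8).1
  have hcop : (Nat.card W0).Coprime 2 := ((Nat.Prime.coprime_iff_not_dvd Nat.prime_two).2 hodd).symm
  -- `M = N(W0)`
  set M := Subgroup.normalizer (W0 : Set G) with hM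
  have hMB : ∀ B : Subgroup G, B ≤ (S : Subgroup G) → ¬ Cfsg.PRankLE 2 1 ↥B →
      Subgroup.normalizer (B : Set G) ≤ M := by
    intro B hB hBr
    rw [hM, ← hW B hB hBr]
    exact conj_cppc_W
  have hSM : (S : Subgroup G) ≤ M := Subgroup.le_normalizer.trans (hMB _ le_rfl hSr)
  have hW0 : W0 = ⊥ := by
    by_cases hMt : M = ⊤
    · have hn : W0.Normal := Subgroup.normalizer_eq_top_iff.1 hMt
      rw [eq_bot_iff, ← hO]
      exact le_sSup ⟨hn, hcop⟩
    · have hse := stronglyEmbedded hc S hSM hMB h8 hS hMt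
      have h1 := hSE G M hse
      rw [hO, le_bot_iff, Subgroup.map_eq_bot_iff_of_injective _ (Subgroup.subtype_injective M)] at h1
      have hWM : W0 ≤ M := Subgroup.le_normalizer
      have hn : (W0.subgroupOf M).Normal := by
        rw [hM]
        exact Subgroup.normal_in_normalizer
      have h2 : W0.subgroupOf M ≤ Cfsg.oddCore ↥M := le_sSup ⟨hn, by
        rw [Nat.card_congr (Subgroup.subgroupOfEquivOfLe hWM).toEquiv]; exact hcop⟩
      rw [h1, le_bot_iff, Subgroup.subgroupOf_eq_bot] at h2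
      have h3 := h2.le_bot
      rw [eq_bot_iff]
      intro x hx
      exact h3 ⟨hx, hWM hx⟩
  -- conjugate `t` into `S`
  have hz : IsPGroup 2 (Subgroup.zpowers t) := by
    rw [IsPGroup.iff_card]
    exact ⟨1, by rw [Nat.card_zpowers, ht, pow_one]⟩
  obtain ⟨x, hx⟩ := H9.exists_conj_smul_le_sylow hz S
  have h1 : x * t * x⁻¹ ∈ (S : Subgroup G) := H9.conj_smul_le_iff.1 hx t (Subgroup.mem_zpowers t)
  have h2 : orderOf (x * t * x⁻¹) = 2 := by
    rw [← ht]
    exact (MulAut.conj x).orderOf_eq t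
  have h3 : Cfsg.centralizerPPrimeCore 2 (x * t * x⁻¹) = ⊥ := by
    rw [← le_bot_iff, ← hW0, ← hW _ le_rfl hSr]
    exact le_W (θ := fun a : G => Cfsg.centralizerPPrimeCore 2 a) h1 (sq_of_order h2).2
  rw [cppc_conj, Subgroup.map_eq_bot_iff_of_injective _ (MulAut.conj x).injective] at h3
  exact h3

/-- involutions lie in elementary abelian subgroups of order 8 when there is a normal one -/
theorem inEight_of_normal {S V : Subgroup G} (hVS : V ≤ S) (hV : Cfsg.IsElementaryAbelian 2 V)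
    (hV3 : 2 ^ 3 ≤ Nat.card V) (hSV : S ≤ Subgroup.normalizer (V : Set G)) : InEight S := by
  haveI : Fact (Nat.Prime 2) := ⟨Nat.prime_two⟩
  intro t ht ht2
  by_cases htV : t ∈ V
  · exact ⟨V, htV, hVS, hV, hV3⟩
  · have hsq := (sq_of_order ht2).1
    have hEl : Cfsg.IsElementaryAbelian 2 (V ⊓ Subgroup.centralizer ({t} : Set G)) := SigF.elem_mono hV inf_le_left
    have hF : Cfsg.IsElementaryAbelian 2 (Subgroup.zpowers t ⊔ (V ⊓ Subgroup.centralizer ({t} : Set G))) := by
      apply elem_sup (elem_zpowers hsq) hEl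
      intro x hx b hb
      have h1 := Subgroup.mem_centralizer_singleton_iff.1 hb.2
      obtain ⟨n, rfl⟩ := hx
      exact (((show Commute b t from h1).zpow_right n).eq).symm
    refine ⟨_, (le_sup_left : Subgroup.zpowers t ≤ _) (Subgroup.mem_zpowers t),
      sup_le (Subgroup.zpowers_le.2 ht) (inf_le_left.trans hVS), hF, ?_⟩
    apply card_pow_two_of hF (k := 2)
    refine lt_of_le_of_lt (cent_ge hV hV3 hsq (hSV ht)) ?_
    apply lt_of_le_of_ne (Nat.card_le_card_of_injective _ (Subgroup.inclusion_injective le_sup_right))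
    intro h
    have h2 := Subgroup.eq_of_le_of_card_ge (le_sup_right : V ⊓ Subgroup.centralizer ({t} : Set G) ≤
      Subgroup.zpowers t ⊔ (V ⊓ Subgroup.centralizer ({t} : Set G))) h.ge
    apply htV
    have h3 : t ∈ V ⊓ Subgroup.centralizer ({t} : Set G) := by
      rw [h2]
      exact (le_sup_left : Subgroup.zpowers t ≤ _) (Subgroup.mem_zpowers t)
    exact h3.1

end Cfsg.Agent.H32.SE
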