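import Mathlib
import Cfsg.Agent.BS.Base
import Cfsg.Agent.H32.SECon

/-!
`O(H) ≤ O(G)` for a strongly embedded subgroup `H` of `G` (Bender–Suzuki).
-/

set_option autoImplicit false
set_option linter.all false

namespace Cfsg.Agent.H32.SE

universe u

theorem strongCore : StrongCore.{u} := fun G _ _ H hH => H23.Bend.core_le hH (BS.num_hyp _)

end Cfsg.Agent.H32.SE
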