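import Mathlib
import Cfsg.Prelude.Def_Local
import Cfsg.Agent.H33.Alperin
import Cfsg.Agent.H32.Syl
import Cfsg.Agent.Solv.Core
import Cfsg.Agent.Transfer.Residual
import Cfsg.Agent.Transfer.Frobenius

/-!
Automorphisms centralizing a Sylow `p`-subgroup and acting trivially on the local subgroups
modulo `O_{p'}(C(U))`: fusion is controlled by the fixed points and the automorphism is isolated.
-/

set_option autoImplicit false
set_option linter.all false

namespace Cfsg.Agent.H32.AutFix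

open Subgroup H33

universe u

variable {G : Type u} [Group G] {p : ℕ}

/-- fixed points of an automorphism -/
def fix (σ : MulAut G) : Subgroup G where
  carrier := {g | σ g = g}
  one_mem' := map_one σ
  mul_mem' := by
    intro a b ha hb
    change σ (a * b) = a * b
    rw [map_mul, show σ a = a from ha, show σ b = b from hb]
  inv_mem' := by
    intro a ha
    change σ a⁻¹ = a⁻¹
    rw [map_inv, show σ a = a from ha]

theorem mem_fix {σ : MulAut G} {g : G} : g ∈ fix σ ↔ σ g = g := Iff.rfl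

/-- `O_{p'}(C_G(U))` -/
def oc (p : ℕ) (U : Subgroup G) : Subgroup G :=
  (Cfsg.pPrimeCore p ↥(Subgroup.centralizer (U : Set G))).map (Subgroup.centralizer (U : Set G)).subtype

/-- `C_G(U)` has Sylow `p`-subgroup `Z(U)` -/
def Centric (p : ℕ) (U : Subgroup G) : Prop :=
  IsSyl p (U ⊓ Subgroup.centralizer (U : Set G)) (Subgroup.centralizer (U : Set G))

/-- local triviality -/
def LocTriv (p : ℕ) (S : Subgroup G) (σ : MulAut G) : Prop :=
  ∀ U : Subgroup G, U ≤ S → Centric p U → ∀ y ∈ Subgroup.normalizer (U : Set G), y⁻¹ * σ y ∈ oc p U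

theorem oc_le (U : Subgroup G) : oc p U ≤ Subgroup.centralizer (U : Set G) := Subgroup.map_subtype_le _

section Fin

variable [Finite G] [hp : Fact p.Prime]

theorem card_oc (U : Subgroup G) : ¬ p ∣ Nat.card (oc p U) := by
  intro h
  rw [oc, Subgroup.card_map_of_injective (Subgroup.subtype_injective _)] at h
  exact (Nat.Prime.coprime_iff_not_dvd hp.out).1 (Solv.pPrimeCore_card_coprime p).symm h

theorem isSyl_inf_normal {T H K : Subgroup G} (h : IsSyl p T H) (hKH : K ≤ H)
    (hn : H ≤ Subgroup.normalizer (K : Set G)) : IsSyl p (T ⊓ K) K := by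
  refine ⟨inf_le_right, h.2.1.to_le inf_le_left, fun hd => h.2.2 ?_⟩
  have h1 := card_sup_mul_card_inf (N := K) (H := T) (h.1.trans hn)
  have h2 : Nat.card T * T.relIndex (K ⊔ T) = Nat.card ↥(K ⊔ T) := by
    have := Subgroup.relIndex_mul_relIndex ⊥ T (K ⊔ T) bot_le le_sup_right
    rwa [Subgroup.relIndex_bot_left, Subgroup.relIndex_bot_left] at this
  have h3 : Nat.card ↥(T ⊓ K) * (T ⊓ K).relIndex K = Nat.card K := by
    have := Subgroup.relIndex_mul_relIndex ⊥ (T ⊓ K) K bot_le inf_le_right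
    rwa [Subgroup.relIndex_bot_left, Subgroup.relIndex_bot_left] at this
  rw [inf_comm K T] at h1
  have h4 : T.relIndex (K ⊔ T) = (T ⊓ K).relIndex K := by
    have h5 : 0 < Nat.card T := Nat.card_pos
    have h6 : 0 < Nat.card ↥(T ⊓ K) := Nat.card_pos
    have h7 : (Nat.card T * Nat.card ↥(T ⊓ K)) * T.relIndex (K ⊔ T) =
        (Nat.card T * Nat.card ↥(T ⊓ K)) * (T ⊓ K).relIndex K := by
      calc (Nat.card T * Nat.card ↥(T ⊓ K)) * T.relIndex (K ⊔ T)
          = (Nat.card T * T.relIndex (K ⊔ T)) * Nat.card ↥(T ⊓ K) := by ring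
        _ = Nat.card K * Nat.card T := by rw [h2, h1]
        _ = (Nat.card ↥(T ⊓ K) * (T ⊓ K).relIndex K) * Nat.card T := by rw [h3]
        _ = _ := by ring
    exact Nat.eq_of_mul_eq_mul_left (Nat.mul_pos h5 h6) h7
  rw [← Subgroup.relIndex_mul_relIndex T (K ⊔ T) H le_sup_right (sup_le hKH h.1), h4]
  exact hd.mul_right _

theorem centric_of_syl {S : Subgroup G} (hS : IsPGroup p S) {U : Subgroup G} (hUS : U ≤ S)
    (h : IsSyl p (nS S U) (Subgroup.normalizer (U : Set G))) (hc : S ⊓ Subgroup.centralizer (U : Set G) ≤ U) :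
    Centric p U := by
  have h1 := isSyl_inf_normal h (Subgroup.centralizer_le_normalizer _)
    (show Subgroup.normalizer (U : Set G) ≤ Subgroup.normalizer ((Subgroup.centralizer (U : Set G) : Subgroup G) : Set G) from by
      intro y hy
      rw [mem_norm_iff, cj_centralizer, mem_norm_iff.1 hy])
  have h2 : nS S U ⊓ Subgroup.centralizer (U : Set G) = U ⊓ Subgroup.centralizer (U : Set G) := by
    apply le_antisymm
    · exact le_inf ((inf_le_inf_right _ inf_le_left).trans hc) inf_le_right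
    · exact inf_le_inf_right _ (le_inf hUS Subgroup.le_normalizer)
  rw [h2] at h1
  exact h1

/-- lifting modulo `O_{p'}(C(U))` -/
theorem exists_lift {σ : MulAut G} {k : ℕ} (hσ : σ ^ p ^ k = 1) {O : Subgroup G} (hO : ¬ p ∣ Nat.card O)
    (hOσ : ∀ o ∈ O, σ o ∈ O) {y : G} (hy : y⁻¹ * σ y ∈ O) : ∃ o ∈ O, σ (y * o) = y * o := by
  classical
  have hOσ' : ∀ o, σ o ∈ O ↔ o ∈ O := by
    intro o
    constructor
    · intro h
      have h1 : O.map σ.toMonoidHom = O := by
        apply Subgroup.eq_of_le_of_card_ge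
        · rintro _ ⟨x, hx, rfl⟩; exact hOσ x hx
        · rw [Subgroup.card_map_of_injective σ.injective]
      rw [← h1] at h
      obtain ⟨x, hx, hxo⟩ := h
      rwa [← σ.injective hxo]
    · exact hOσ o
  let q : G → Prop := fun x => y⁻¹ * x ∈ O
  have hq : ∀ x, q (σ.toEquiv x) ↔ q x := by
    intro x
    change y⁻¹ * σ x ∈ O ↔ y⁻¹ * x ∈ O
    have e : y⁻¹ * σ x = (y⁻¹ * σ y) * σ (y⁻¹ * x) := by
      rw [map_mul, map_inv]; group
    rw [e, Subgroup.mul_mem_cancel_left _ hy, hOσ']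
  let τ : Equiv.Perm {x // q x} := Equiv.Perm.subtypePerm σ.toEquiv hq
  have hτv : ∀ (n : ℕ) (x : {x // q x}), (((τ ^ n) x : {x // q x}) : G) = (σ ^ n) (x : G) := by
    intro n
    induction n with
    | zero => intro x; rfl
    | succ n ih =>
      intro x
      rw [pow_succ, Equiv.Perm.mul_apply, ih, pow_succ]
      rfl
  have hτ : τ ^ p ^ k = 1 := by
    ext x
    rw [hτv, hσ]
    rfl
  have e0 : {x // q x} ≃ O :=
    { toFun := fun x => ⟨y⁻¹ * x, x.2⟩
      invFun := fun o => ⟨y * o, by change y⁻¹ * (y * (o : G)) ∈ O; rw [inv_mul_cancel_left]; exact o.2⟩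
      left_inv := fun x => Subtype.ext (by simp)
      right_inv := fun o => Subtype.ext (by simp) }
  haveI : Fintype {x // q x} := Fintype.ofFinite _
  have hcard : ¬ p ∣ Fintype.card {x // q x} := by
    rw [← Nat.card_eq_fintype_card, Nat.card_congr e0]
    exact hO
  obtain ⟨x, hx⟩ := Equiv.Perm.exists_fixed_point_of_prime hcard hτ
  refine ⟨y⁻¹ * x, x.2, ?_⟩
  rw [mul_inv_cancel_left]
  exact congrArg Subtype.val hx

theorem map_centralizer_of_fix {σ : MulAut G} {U : Subgroup G} (hU : U ≤ fix σ) :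
    (Subgroup.centralizer (U : Set G)).map σ.toMonoidHom = Subgroup.centralizer (U : Set G) := by
  apply Subgroup.eq_of_le_of_card_ge
  · rintro _ ⟨x, hx, rfl⟩
    rw [Subgroup.mem_centralizer_iff]
    intro u hu
    have h1 := Subgroup.mem_centralizer_iff.1 hx u hu
    have h2 := congrArg σ h1
    rw [map_mul, map_mul, show σ u = u from hU hu] at h2
    exact h2
  · rw [Subgroup.card_map_of_injective σ.injective]

/-- restriction of an automorphism to an invariant subgroup -/
theorem oc_invariant {σ : MulAut G} {U : Subgroup G} (hU : U ≤ fix σ) {o : G} (ho : o ∈ oc p U) : σ o ∈ oc p U := by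
  have h1 := map_centralizer_of_fix hU
  set C := Subgroup.centralizer (U : Set G) with hC
  let e1 : C ≃* C.map σ.toMonoidHom := C.equivMapOfInjective σ.toMonoidHom σ.injective
  let e2 : C.map σ.toMonoidHom ≃* C := MulEquiv.subgroupCongr h1
  let e : C ≃* C := e1.trans e2
  have he : ∀ c : C, ((e c : C) : G) = σ (c : G) := fun c => rfl
  obtain ⟨c, hc, rfl⟩ := ho
  have h2 : (Cfsg.pPrimeCore p C).map e.toMonoidHom = Cfsg.pPrimeCore p C :=
    Subgroup.characteristic_iff_map_eq.1 inferInstance e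
  refine ⟨e c, ?_, rfl⟩
  rw [SetLike.mem_coe, ← h2]
  exact ⟨c, hc, rfl⟩

/-- **(A)** the fixed points control strong fusion. -/
theorem control (S : Sylow p G) {σ : MulAut G} {k : ℕ} (hσ : σ ^ p ^ k = 1) (hS : (S : Subgroup G) ≤ fix σ)
    (hL : LocTriv p (S : Subgroup G) σ) {A : Subgroup G} (hA : A ≤ (S : Subgroup G)) {g : G}
    (hg : cj g A ≤ (S : Subgroup G)) : ∃ m ∈ fix σ, ∀ x ∈ A, g * x * g⁻¹ = m * x * m⁻¹ := by
  -- the centric case
  have hcen : ∀ U : Subgroup G, U ≤ (S : Subgroup G) → Centric p U → ∀ y ∈ Subgroup.normalizer (U : Set G),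
      ∃ m ∈ fix σ, ∀ x ∈ U, y * x * y⁻¹ = m * x * m⁻¹ := by
    intro U hU hUc y hy
    obtain ⟨o, ho, hyo⟩ := exists_lift hσ (card_oc U) (fun o ho => oc_invariant (hU.trans hS) ho) (hL U hU hUc y hy)
    refine ⟨y * o, hyo, fun x hx => ?_⟩
    have h1 := Subgroup.mem_centralizer_iff.1 (oc_le U ho) x hx
    calc y * x * y⁻¹ = y * (x * o) * o⁻¹ * y⁻¹ := by group
      _ = y * (o * x) * o⁻¹ * y⁻¹ := by rw [h1]
      _ = y * o * x * (y * o)⁻¹ := by group
  refine alperin_abstract S ⊥ bot_le (fun A g => ∃ m ∈ fix σ, ∀ x ∈ A, g * x * g⁻¹ = m * x * m⁻¹)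
    ?_ ?_ ?_ ?_ ?_ A hA g hg
  · rintro A' A g hA' - - ⟨m, hm, h⟩
    exact ⟨m, hm, fun x hx => h x (hA' hx)⟩
  · rintro A g h - - - ⟨m, hm, h1⟩ ⟨n, hn, h2⟩
    refine ⟨n * m, mul_mem hn hm, fun x hx => ?_⟩
    have h3 := h2 _ (conj_mem_cj (g := g) hx)
    calc h * g * x * (h * g)⁻¹ = h * (g * x * g⁻¹) * h⁻¹ := by group
      _ = n * (m * x * m⁻¹) * n⁻¹ := by rw [h3, h1 x hx]
      _ = n * m * x * (n * m)⁻¹ := by group
  · rintro A g - - ⟨m, hm, h1⟩
    refine ⟨m⁻¹, inv_mem hm, fun x hx => ?_⟩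
    have hx' := mem_cj.1 hx
    have h2 := h1 _ hx'
    have h3 : x = m * (g⁻¹ * x * g) * m⁻¹ := by rw [← h2]; group
    calc g⁻¹ * x * g⁻¹⁻¹ = g⁻¹ * x * g := by group
      _ = m⁻¹ * (m * (g⁻¹ * x * g) * m⁻¹) * m⁻¹⁻¹ := by group
      _ = m⁻¹ * x * m⁻¹⁻¹ := by rw [← h3]
  · intro g hg
    apply hcen _ le_rfl _ g hg
    apply centric_of_syl S.2 le_rfl _ inf_le_left
    have h1 := isSyl_top S
    have h2 : nS (S : Subgroup G) (S : Subgroup G) = S := inf_eq_left.2 Subgroup.le_normalizer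
    rw [h2]
    exact h1.mono Subgroup.le_normalizer le_top
  · intro A _ hAS IH
    obtain ⟨a, haS, hsyl⟩ := exists_cj_isSyl S (H := Subgroup.normalizer (A : Set G)) (R := A) Subgroup.le_normalizer
      (S.2.to_le hAS.le)
    rw [cj_normalizer] at hsyl
    refine ⟨a, haS, hsyl, ?_⟩
    intro y hy
    set U := cj a A with hU
    by_cases hc : (S : Subgroup G) ⊓ Subgroup.centralizer (U : Set G) ≤ U
    · exact hcen U haS (centric_of_syl S.2 haS hsyl hc) y hy
    · have hn : Subgroup.normalizer (U : Set G) ≤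
          Subgroup.normalizer ((Subgroup.centralizer (U : Set G) : Subgroup G) : Set G) := by
        intro y hy
        rw [mem_norm_iff, cj_centralizer, mem_norm_iff.1 hy]
      have h1 := isSyl_inf_normal hsyl (Subgroup.centralizer_le_normalizer _) hn
      have h2 : (S : Subgroup G) ⊓ Subgroup.normalizer (U : Set G) ⊓ Subgroup.centralizer (U : Set G) =
          (S : Subgroup G) ⊓ Subgroup.centralizer (U : Set G) := by
        rw [inf_assoc, inf_eq_right.2 (Subgroup.centralizer_le_normalizer (U : Set G))]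
      rw [h2] at h1
      set D := (S : Subgroup G) ⊓ Subgroup.centralizer (U : Set G) with hD
      have h3 : IsSyl p (cj y D) (Subgroup.centralizer (U : Set G)) := by
        have := h1.conj y
        rwa [mem_norm_iff.1 (hn hy)] at this
      obtain ⟨c, hcC, hcD⟩ := h1.conj_eq h3
      set B := U ⊔ D with hB
      have hBS : B ≤ (S : Subgroup G) := sup_le haS inf_le_left
      have hcU : cj c U = U := mem_norm_iff.1 (Subgroup.centralizer_le_normalizer _ hcC)
      have hBB : cj (c * y) B = B := by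
        rw [hB, cj_sup, cj_mul, cj_mul, hcD, mem_norm_iff.1 hy, hcU]
      have hlt : Nat.card A < Nat.card B := by
        rw [← card_cj a A]
        apply card_lt_card_of_lt
        refine lt_of_le_of_ne le_sup_left fun h => hc ?_
        rw [← hU] at h
        rw [h]
        exact le_sup_right
      obtain ⟨m, hm, hmx⟩ := IH B hBS hlt (c * y) (by rw [hBB]; exact hBS)
      refine ⟨m, hm, fun x hx => ?_⟩
      rw [← hmx x ((le_sup_left : U ≤ B) hx)]
      have h4 : y * x * y⁻¹ ∈ U := (Subgroup.mem_normalizer_iff.1 hy x).1 hx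
      have h5 := Subgroup.mem_centralizer_iff.1 hcC _ h4
      calc y * x * y⁻¹ = (y * x * y⁻¹) * c * c⁻¹ := by group
        _ = c * (y * x * y⁻¹) * c⁻¹ := by rw [h5]
        _ = c * y * x * (c * y)⁻¹ := by group

/-- **(B')** isolation. -/
theorem isolated (S : Sylow p G) {σ : MulAut G} {k : ℕ} (hσ : σ ^ p ^ k = 1) (hS : (S : Subgroup G) ≤ fix σ)
    (hL : LocTriv p (S : Subgroup G) σ) {g : G} (hg : g * (σ g)⁻¹ ∈ (S : Subgroup G)) : σ g = g := by
  -- reformulation
  suffices h : ∀ s ∈ (S : Subgroup G), ∀ g : G, g * (σ g)⁻¹ = s →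
      IsSyl p ((S : Subgroup G) ⊓ Subgroup.centralizer ((Subgroup.zpowers s : Subgroup G) : Set G))
        (Subgroup.centralizer ((Subgroup.zpowers s : Subgroup G) : Set G)) → s = 1 by
    obtain ⟨s, hs⟩ : ∃ s, s = g * (σ g)⁻¹ := ⟨_, rfl⟩
    rw [← hs] at hg
    have hz : Subgroup.zpowers s ≤ (S : Subgroup G) := Subgroup.zpowers_le.2 hg
    obtain ⟨b, hbS, hbsyl⟩ := exists_cj_isSyl S (R := Subgroup.zpowers s)
      (H := Subgroup.centralizer ((Subgroup.zpowers s : Subgroup G) : Set G))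
      (by
        rw [Subgroup.le_centralizer_iff_isMulCommutative]
        infer_instance) (S.2.to_le hz)
    obtain ⟨m, hm, hmx⟩ := control S hσ hS hL hz hbS
    have h1 := hmx s (Subgroup.mem_zpowers s)
    have hcjz : cj b (Subgroup.zpowers s) = Subgroup.zpowers (b * s * b⁻¹) := by
      rw [cj, MonoidHom.map_zpowers]; rfl
    rw [cj_centralizer, hcjz] at hbsyl
    have h2 := h (b * s * b⁻¹) (by
      rw [hcjz] at hbS; exact hbS (Subgroup.mem_zpowers _)) (m * g) (by
      rw [map_mul, mem_fix.1 hm, h1, hs]; group) hbsyl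
    have h3 : s = 1 := by
      have := congrArg (fun x => b⁻¹ * x * b) h2
      simpa [mul_assoc] using this
    rw [h3] at hs
    exact (mul_inv_eq_one.1 hs.symm).symm
  intro s hsS g hgs hsyl
  have hσg : σ g = s⁻¹ * g := by rw [← hgs]; group
  set E := (S : Subgroup G) ⊓ Subgroup.centralizer ((Subgroup.zpowers s : Subgroup G) : Set G) with hE
  have hEcomm : ∀ x ∈ E, x * s = s * x := by
    intro x hx
    exact (Subgroup.mem_centralizer_iff.1 hx.2 s (Subgroup.mem_zpowers s)).symm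
  -- the twisted centralizer
  let T : Subgroup G :=
    { carrier := {x | σ x = s⁻¹ * x * s}
      one_mem' := by simp
      mul_mem' := by
        intro a b ha hb
        change σ (a * b) = s⁻¹ * (a * b) * s
        rw [map_mul, show σ a = s⁻¹ * a * s from ha, show σ b = s⁻¹ * b * s from hb]
        group
      inv_mem' := by
        intro a ha
        change σ a⁻¹ = s⁻¹ * a⁻¹ * s
        rw [map_inv, show σ a = s⁻¹ * a * s from ha]
        group }
  have hgT : cj g (S : Subgroup G) ≤ T := by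
    rw [cj_le_iff]
    intro x hx
    change σ (g * x * g⁻¹) = s⁻¹ * (g * x * g⁻¹) * s
    rw [map_mul, map_mul, map_inv, hσg, mem_fix.1 (hS hx)]
    group
  have hET : E ≤ T := by
    intro x hx
    change σ x = s⁻¹ * x * s
    rw [mem_fix.1 (hS hx.1), mul_assoc, hEcomm x hx, ← mul_assoc, inv_mul_cancel, one_mul]
  have hTsyl : IsSyl p (cj g (S : Subgroup G)) T := by
    have h1 := (isSyl_top S).conj g
    rw [cj_top] at h1
    exact h1.mono hgT le_top
  obtain ⟨c, hcT, hcE⟩ := hTsyl.conj_le hET (S.2.to_le inf_le_left)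
  have hcT' : σ c = s⁻¹ * c * s := hcT
  -- g1 = c⁻¹ g
  have h1 : cj (c⁻¹ * g)⁻¹ E ≤ (S : Subgroup G) := by
    have h2 : (c⁻¹ * g)⁻¹ = g⁻¹ * c := by group
    rw [h2, cj_mul]
    have := cj_mono (g := g⁻¹) hcE
    rwa [cj_inv_cj] at this
  have h2 : (c⁻¹ * g) * (σ (c⁻¹ * g))⁻¹ = s := by
    rw [map_mul, map_inv, hcT', hσg]; group
  obtain ⟨m, hm, hmx⟩ := control S hσ hS hL (inf_le_left : E ≤ (S : Subgroup G)) h1
  set c0 := c⁻¹ * g * m with hc0
  have hc0C : ∀ x ∈ E, x * c0 = c0 * x := by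
    intro x hx
    have h3 := hmx x hx
    have h4 : c0⁻¹ * x * c0 = x := by
      calc c0⁻¹ * x * c0 = m⁻¹ * ((c⁻¹ * g)⁻¹ * x * (c⁻¹ * g)⁻¹⁻¹) * m := by rw [hc0]; group
        _ = x := by rw [h3]; group
    calc x * c0 = c0 * (c0⁻¹ * x * c0) := by group
      _ = c0 * x := by rw [h4]
  have hσc0 : σ c0 = s⁻¹ * c0 := by
    have h3 : c0 * (σ c0)⁻¹ = s := by
      rw [hc0, map_mul, mem_fix.1 hm, ← h2]; group
    rw [← h3]; group
  have hsE : s ∈ E := by
    refine Subgroup.mem_inf.2 ⟨hsS, Subgroup.mem_centralizer_iff.2 ?_⟩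
    rintro _ ⟨n, rfl⟩
    exact ((Commute.refl s).zpow_left n).eq
  have hsc0 : Commute s c0 := hc0C s hsE
  obtain ⟨a, b, hab, ⟨j, hj⟩, hb⟩ := Transfer.exists_pow_decomp p c0 (orderOf_pos c0).ne'
  have hpow : ∀ n : ℕ, σ (c0 ^ n) = (s⁻¹) ^ n * c0 ^ n := by
    intro n
    rw [map_pow, hσc0, (hsc0.inv_left).mul_pow]
  -- the `p'`-part is fixed
  obtain ⟨l, hl⟩ := (S.2.to_le (Subgroup.zpowers_le.2 hsS) : IsPGroup p (Subgroup.zpowers s)) ⟨s, Subgroup.mem_zpowers s⟩
  have hsl : s ^ p ^ l = 1 := congrArg Subtype.val hl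
  have hw : σ (c0 ^ b) = c0 ^ b := by
    have h3 : ((s⁻¹) ^ b) ^ orderOf (c0 ^ b) = 1 := by
      have h4 : (σ (c0 ^ b)) ^ orderOf (c0 ^ b) = 1 := by
        rw [← map_pow, pow_orderOf_eq_one, map_one]
      rw [hpow, (((hsc0.inv_left).pow_pow b b)).mul_pow, pow_orderOf_eq_one, mul_one] at h4
      exact h4
    have h5 : ((s⁻¹) ^ b) ^ p ^ l = 1 := by
      rw [← pow_mul, mul_comm, pow_mul, inv_pow, hsl, inv_one, one_pow]
    have h6 : (s⁻¹) ^ b = 1 := by
      have h7 : orderOf ((s⁻¹) ^ b) ∣ 1 := by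
        have h8 : Nat.Coprime (orderOf (c0 ^ b)) (p ^ l) := hb.pow_right l
        rw [← h8]
        exact Nat.dvd_gcd (orderOf_dvd_of_pow_eq_one h3) (orderOf_dvd_of_pow_eq_one h5)
      exact orderOf_eq_one_iff.1 (Nat.dvd_one.1 h7)
    rw [hpow, h6, one_mul]
  have hv : σ (c0 ^ a) = s⁻¹ * c0 ^ a := by
    have h3 : σ (c0 ^ a) * c0 ^ b = s⁻¹ * c0 ^ a * c0 ^ b := by
      rw [mul_assoc, ← hab, ← hσc0]
      conv_rhs => rw [hab]
      rw [map_mul, hw]
    exact mul_right_cancel h3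
  -- the `p`-part lies in `E`
  have hvE : c0 ^ a ∈ (S : Subgroup G) := by
    have h3 : IsPGroup p (Subgroup.zpowers (c0 ^ a)) := IsPGroup.of_card (n := j) (by rw [Nat.card_zpowers, hj])
    have h4 : Subgroup.zpowers (c0 ^ a) ≤ Subgroup.normalizer (E : Set G) := by
      refine le_trans ?_ (Subgroup.centralizer_le_normalizer _)
      rw [Subgroup.zpowers_le, Subgroup.mem_centralizer_iff]
      intro x hx
      exact ((show Commute x c0 from hc0C x hx).pow_right a).eq
    have h5 : IsPGroup p ↥(E ⊔ Subgroup.zpowers (c0 ^ a)) :=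
      IsPGroup.to_sup_of_normal_left' (S.2.to_le inf_le_left) h3 h4
    have h6 : E ⊔ Subgroup.zpowers (c0 ^ a) ≤ Subgroup.centralizer ((Subgroup.zpowers s : Subgroup G) : Set G) := by
      refine sup_le inf_le_right ?_
      rw [Subgroup.zpowers_le, Subgroup.mem_centralizer_iff]
      rintro _ ⟨n, rfl⟩
      exact ((hsc0.zpow_left n).pow_right a).eq
    have h7 := hsyl.eq_of_le le_sup_left h6 h5
    have h8 : c0 ^ a ∈ E := by
      rw [← h7]
      exact (le_sup_right : Subgroup.zpowers (c0 ^ a) ≤ _) (Subgroup.mem_zpowers _)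
    exact h8.1
  have h9 := mem_fix.1 (hS hvE)
  rw [hv] at h9
  have h10 : s⁻¹ = 1 := mul_eq_right.1 h9
  exact inv_eq_one.1 h10

end Fin

end Cfsg.Agent.H32.AutFix
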