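import Mathlib
import Cfsg.Prelude.Def_Local
import Cfsg.Agent.H32.AutFix
import Cfsg.Agent.H69.ZStar
import Cfsg.Agent.Transfer.NPC
import Cfsg.Agent.Transfer.Frobenius

/-!
Automorphisms centralizing a Sylow subgroup: commutators of such are locally trivial; for `p = 2`,
locally trivial 2-automorphisms act trivially modulo `O(G)` (Z*).
-/

set_option autoImplicit false
set_option linter.all false

open scoped commutatorElement

namespace Cfsg.Agent.H32.AutFix

open Subgroup H33

universe u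

variable {G : Type u} [Group G] {p : ℕ}

/-- automorphisms fixing `S` pointwise -/
def FixS (S : Subgroup G) : Subgroup (MulAut G) where
  carrier := {σ | S ≤ fix σ}
  one_mem' := fun s _ => rfl
  mul_mem' := by
    intro a b ha hb s hs
    change a (b s) = s
    rw [show b s = s from hb hs]; exact ha hs
  inv_mem' := by
    intro a ha s hs
    change a⁻¹ s = s
    rw [MulAut.inv_apply, MulEquiv.symm_apply_eq]
    exact (ha hs).symm

theorem mem_FixS {S : Subgroup G} {σ : MulAut G} : σ ∈ FixS S ↔ S ≤ fix σ := Iff.rfl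

theorem mem_normalizer_of_fix {σ : MulAut G} {U : Subgroup G} (hU : U ≤ fix σ) {y : G}
    (hy : y ∈ Subgroup.normalizer (U : Set G)) : σ y ∈ Subgroup.normalizer (U : Set G) := by
  rw [Subgroup.mem_normalizer_iff] at hy ⊢
  intro x
  constructor
  · intro hx
    have h1 := (hy x).1 hx
    have h2 : σ (y * x * y⁻¹) = y * x * y⁻¹ := hU h1
    rw [map_mul, map_mul, map_inv, show σ x = x from hU hx] at h2
    rw [h2]; exact h1
  · intro hx
    -- x' := (σ y) x (σ y)⁻¹ ∈ U; then y⁻¹ x' y ∈ U and its image is x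
    set x' := σ y * x * (σ y)⁻¹ with hx'
    have h1 : y⁻¹ * x' * y ∈ U := (hy _).2 (by
      have : y * (y⁻¹ * x' * y) * y⁻¹ = x' := by group
      rw [this]; exact hx)
    have h2 : σ (y⁻¹ * x' * y) = y⁻¹ * x' * y := hU h1
    rw [map_mul, map_mul, map_inv, show σ x' = x' from hU hx] at h2
    have h3 : (σ y)⁻¹ * x' * σ y = x := by rw [hx']; group
    rw [h3] at h2
    rw [h2]; exact h1

section Fin

variable [Finite G] [hp : Fact p.Prime]

/-- `C(U) = Z(U) O_{p'}(C(U))` for centric `U`. -/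
theorem exists_zo {U : Subgroup G} (hU : Centric p U) {c : G} (hc : c ∈ Subgroup.centralizer (U : Set G)) :
    ∃ z ∈ U, z ∈ Subgroup.centralizer (U : Set G) ∧ ∃ o ∈ oc p U, c = z * o := by
  set C := Subgroup.centralizer (U : Set G) with hC
  let P : Sylow p C := IsSyl.toSylow hU
  have hP : ∀ z : C, z ∈ P ↔ (z : G) ∈ U := by
    intro z
    change (z : C) ∈ (U ⊓ C).subgroupOf C ↔ _
    rw [Subgroup.mem_subgroupOf, Subgroup.mem_inf]
    exact ⟨fun h => h.1, fun h => ⟨h, z.2⟩⟩
  have hcent : ∀ z ∈ P, ∀ x : C, z * x = x * z := by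
    intro z hz x
    apply Subtype.ext
    exact Subgroup.mem_centralizer_iff.1 x.2 (z : G) ((hP z).1 hz)
  have h1 : Cfsg.HasNormalPComplement p C := by
    apply Transfer.hasNPC_of_normalizer_le_centralizer P
    intro x _
    rw [Subgroup.mem_centralizer_iff]
    intro z hz
    exact hcent z hz x
  obtain ⟨N, hN, hNc⟩ := (Transfer.hasNPC_iff_sylow P).1 h1
  obtain ⟨⟨n, z⟩, hnz⟩ := hNc.2 ⟨c, hc⟩
  have hnz' : (n : C) * (z : C) = ⟨c, hc⟩ := hnz
  have hNp : (Nat.card N).Coprime p := by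
    have h2 := hNc.card_mul
    have h3 : N.index = Nat.card P := hNc.symm.index_eq_card
    by_contra hcon
    have h4 : p ∣ Nat.card N := by
      by_contra h5
      exact hcon ((Nat.Prime.coprime_iff_not_dvd hp.out).2 h5).symm
    have h6 : (P : Subgroup C).index = Nat.card N := hNc.index_eq_card
    exact P.not_dvd_index (h6 ▸ h4)
  refine ⟨z, (hP _).1 z.2, (z : C).2, n, ⟨n, Solv.le_pPrimeCore hN hNp n.2, rfl⟩, ?_⟩
  have h7 := hcent (z : C) z.2 (n : C)
  rw [← h7] at hnz'
  exact (congrArg Subtype.val hnz').symm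

theorem inv_mul_mem_centralizer {σ : MulAut G} {U : Subgroup G} (hU : U ≤ fix σ) {y : G}
    (hy : y ∈ Subgroup.normalizer (U : Set G)) : y⁻¹ * σ y ∈ Subgroup.centralizer (U : Set G) := by
  rw [Subgroup.mem_centralizer_iff]
  intro u hu
  have h1 := (Subgroup.mem_normalizer_iff.1 hy u).1 hu
  have h2 : σ (y * u * y⁻¹) = y * u * y⁻¹ := hU h1
  rw [map_mul, map_mul, map_inv, show σ u = u from hU hu] at h2
  -- σ y u (σ y)⁻¹ = y u y⁻¹
  have h3 : σ y * u = y * u * y⁻¹ * σ y := by rw [← h2]; group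
  calc u * (y⁻¹ * σ y) = y⁻¹ * (y * u * y⁻¹ * σ y) := by group
    _ = y⁻¹ * (σ y * u) := by rw [h3]
    _ = y⁻¹ * σ y * u := by group

theorem comm_locTriv {S : Subgroup G} {α γ : MulAut G} (hα : S ≤ fix α) (hγ : S ≤ fix γ) :
    LocTriv p S ⁅α, γ⁆ := by
  intro U hU hUc w hw
  have hUα := hU.trans hα
  have hUγ := hU.trans hγ
  have hαi : S ≤ fix α⁻¹ := (FixS S).inv_mem hα
  have hγi : S ≤ fix γ⁻¹ := (FixS S).inv_mem hγ
  obtain ⟨y, hy⟩ : ∃ y, y = α⁻¹ (γ⁻¹ w) := ⟨_, rfl⟩
  have hyN : y ∈ Subgroup.normalizer (U : Set G) := by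
    rw [hy]
    exact mem_normalizer_of_fix (hU.trans hαi) (mem_normalizer_of_fix (hU.trans hγi) hw)
  have hwy : w = γ (α y) := by
    rw [hy, MulAut.apply_inv_self, MulAut.apply_inv_self]
  have hcw : ⁅α, γ⁆ w = α (γ y) := by
    rw [commutatorElement_def, MulAut.mul_apply, MulAut.mul_apply, MulAut.mul_apply, ← hy]
  obtain ⟨za, hza, hzaC, oa, hoa, ea⟩ := exists_zo hUc (inv_mul_mem_centralizer hUα hyN)
  obtain ⟨zc, hzc, hzcC, oc', hoc, ec⟩ := exists_zo hUc (inv_mul_mem_centralizer hUγ hyN)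
  have ea' : α y = y * (za * oa) := by rw [← ea]; group
  have ec' : γ y = y * (zc * oc') := by rw [← ec]; group
  have h1 : α (γ y) = y * (za * oa) * (zc * α oc') := by
    rw [ec', map_mul, map_mul, ea', show α zc = zc from hUα hzc]
  have h2 : γ (α y) = y * (zc * oc') * (za * γ oa) := by
    rw [ea', map_mul, map_mul, ec', show γ za = za from hUγ hza]
  have c1 : zc * oa = oa * zc := Subgroup.mem_centralizer_iff.1 (oc_le U hoa) zc hzc
  have c2 : za * oc' = oc' * za := Subgroup.mem_centralizer_iff.1 (oc_le U hoc) za hza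
  have c3 : za * zc = zc * za := Subgroup.mem_centralizer_iff.1 hzcC za hza
  have h1' : α (γ y) = (y * (za * zc)) * (oa * α oc') := by
    rw [h1]
    calc y * (za * oa) * (zc * α oc') = y * za * (oa * zc) * α oc' := by group
      _ = y * za * (zc * oa) * α oc' := by rw [c1]
      _ = _ := by group
  have h2' : γ (α y) = (y * (za * zc)) * (oc' * γ oa) := by
    rw [h2]
    calc y * (zc * oc') * (za * γ oa) = y * zc * (oc' * za) * γ oa := by group
      _ = y * zc * (za * oc') * γ oa := by rw [c2]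
      _ = y * (zc * za) * (oc' * γ oa) := by group
      _ = _ := by rw [c3]
  rw [hcw, hwy, h1', h2']
  have h3 : ((y * (za * zc)) * (oc' * γ oa))⁻¹ * ((y * (za * zc)) * (oa * α oc')) =
      (oc' * γ oa)⁻¹ * (oa * α oc') := by group
  rw [h3]
  exact mul_mem (inv_mem (mul_mem hoc (oc_invariant hUγ hoa))) (mul_mem hoa (oc_invariant hUα hoc))

/-- the subgroup of locally trivial automorphisms fixing `S` -/
def LT (p : ℕ) [Fact p.Prime] (S : Subgroup G) : Subgroup (MulAut G) where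
  carrier := {σ | S ≤ fix σ ∧ LocTriv p S σ}
  one_mem' := ⟨fun s _ => rfl, fun U _ _ y _ => by
    change y⁻¹ * y ∈ _
    rw [inv_mul_cancel]; exact one_mem _⟩
  mul_mem' := by
    rintro a b ⟨ha, ha'⟩ ⟨hb, hb'⟩
    refine ⟨(FixS S).mul_mem ha hb, fun U hU hUc y hy => ?_⟩
    have e : y⁻¹ * (a * b) y = (y⁻¹ * a y) * a (y⁻¹ * b y) := by
      rw [MulAut.mul_apply, map_mul, map_inv]; group
    rw [e]
    exact mul_mem (ha' U hU hUc y hy) (oc_invariant (hU.trans ha) (hb' U hU hUc y hy))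
  inv_mem' := by
    rintro a ⟨ha, ha'⟩
    have hai : S ≤ fix a⁻¹ := (FixS S).inv_mem ha
    refine ⟨hai, fun U hU hUc y hy => ?_⟩
    have h1 := mem_normalizer_of_fix (hU.trans hai) hy
    have h2 := ha' U hU hUc _ h1
    rw [MulAut.apply_inv_self] at h2
    have e : y⁻¹ * a⁻¹ y = ((a⁻¹ y)⁻¹ * y)⁻¹ := by group
    rw [e]
    exact inv_mem h2

theorem commutator_le_LT (S : Subgroup G) : ⁅FixS S, FixS S⁆ ≤ LT p S := by
  rw [Subgroup.commutator_le]
  intro α hα γ hγ
  refine ⟨?_, comm_locTriv hα hγ⟩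
  change _ ∈ FixS S
  rw [commutatorElement_def]
  exact mul_mem (mul_mem (mul_mem hα hγ) (inv_mem hα)) (inv_mem hγ)

end Fin

/-- **(C')** for `p = 2`. -/
theorem zstar_aut [Finite G] (S : Sylow 2 G) {σ : MulAut G} {k : ℕ} (hσ : σ ^ 2 ^ k = 1)
    (hS : (S : Subgroup G) ≤ fix σ) (hL : haveI : Fact (Nat.Prime 2) := ⟨Nat.prime_two⟩; LocTriv 2 (S : Subgroup G) σ) (g : G) :
    g * (σ g)⁻¹ ∈ Cfsg.pPrimeCore 2 G := by
  haveI : Fact (Nat.Prime 2) := ⟨Nat.prime_two⟩
  let φ : Subgroup.zpowers σ →* MulAut G := (Subgroup.zpowers σ).subtype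
  let X := G ⋊[φ] (Subgroup.zpowers σ)
  haveI : Finite X := Finite.of_equiv _ (SemidirectProduct.equivProd (φ := φ)).symm
  let il : G →* X := SemidirectProduct.inl
  let ir : Subgroup.zpowers σ →* X := SemidirectProduct.inr
  have hil : Function.Injective il := SemidirectProduct.inl_injective
  let x : X := ir ⟨σ, Subgroup.mem_zpowers σ⟩
  have hx : ∀ h : G, x * il h * x⁻¹ = il (σ h) := by
    intro h
    have := SemidirectProduct.inl_aut (φ := φ) ⟨σ, Subgroup.mem_zpowers σ⟩ h
    rw [map_inv] at this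
    exact this.symm
  have hx2 : x ^ 2 ^ k = 1 := by
    have h1 : (⟨σ, Subgroup.mem_zpowers σ⟩ : Subgroup.zpowers σ) ^ 2 ^ k = 1 := Subtype.ext hσ
    change (ir ⟨σ, Subgroup.mem_zpowers σ⟩) ^ 2 ^ k = 1
    rw [← map_pow, h1, map_one]
  have hxp : IsPGroup 2 (Subgroup.zpowers x) := by
    rw [IsPGroup.iff_card]
    obtain ⟨j, -, hj⟩ := (Nat.dvd_prime_pow Nat.prime_two).1 (orderOf_dvd_of_pow_eq_one hx2)
    exact ⟨j, by rw [Nat.card_zpowers, hj]⟩
  have hSX : IsPGroup 2 ((S : Subgroup G).map il) := S.2.map _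
  have hnorm : Subgroup.zpowers x ≤ Subgroup.normalizer (((S : Subgroup G).map il : Subgroup X) : Set X) := by
    refine le_trans ?_ (Subgroup.centralizer_le_normalizer _)
    rw [Subgroup.zpowers_le, Subgroup.mem_centralizer_iff]
    rintro _ ⟨s, hs, rfl⟩
    have h1 := hx s
    rw [mem_fix.1 (hS hs)] at h1
    rw [mul_inv_eq_iff_eq_mul] at h1
    exact h1.symm
  obtain ⟨P, hP⟩ := (IsPGroup.to_sup_of_normal_left' hSX hxp hnorm).exists_le_sylow
  have hxP : x ∈ (P : Subgroup X) := hP ((le_sup_right : Subgroup.zpowers x ≤ _) (Subgroup.mem_zpowers x))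
  have hcomap : (P : Subgroup X).comap il = S := by
    apply S.is_maximal'
    · exact P.2.comap_of_injective il hil
    · intro s hs
      exact hP ((le_sup_left : (S : Subgroup G).map il ≤ _) ⟨s, hs, rfl⟩)
  have hconj : ∀ h : G, il h * x * (il h)⁻¹ = il (h * (σ h)⁻¹) * x := by
    intro h
    have h1 := hx h⁻¹
    have h2 : x * il h⁻¹ = il (σ h⁻¹) * x := by rw [← h1, inv_mul_cancel_right]
    have h3 : il h * x * (il h)⁻¹ = il h * (x * il h⁻¹) := by rw [map_inv, mul_assoc]
    rw [h3, h2, ← mul_assoc, ← map_mul, map_inv]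
  have hiso : ∀ y : X, y * x * y⁻¹ ∈ (P : Subgroup X) → y * x * y⁻¹ = x := by
    intro y hy
    have hy1 : y = il y.left * ir y.right := (SemidirectProduct.inl_left_mul_inr_right y).symm
    have hcom : ir y.right * x * (ir y.right)⁻¹ = x := by
      have hc : y.right * ⟨σ, Subgroup.mem_zpowers σ⟩ = ⟨σ, Subgroup.mem_zpowers σ⟩ * y.right := by
        apply Subtype.ext
        obtain ⟨n, hn⟩ := y.right.2
        change (y.right : MulAut G) * σ = σ * (y.right : MulAut G)
        rw [← hn]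
        exact (Commute.refl σ).zpow_left n
      change ir y.right * ir ⟨σ, Subgroup.mem_zpowers σ⟩ * (ir y.right)⁻¹ = ir ⟨σ, Subgroup.mem_zpowers σ⟩
      rw [← map_mul, ← map_inv, ← map_mul, hc, mul_inv_cancel_right]
    have h3 : y * x * y⁻¹ = il (y.left * (σ y.left)⁻¹) * x := by
      rw [← hconj]
      conv_lhs => rw [hy1]
      calc il y.left * ir y.right * x * (il y.left * ir y.right)⁻¹
          = il y.left * (ir y.right * x * (ir y.right)⁻¹) * (il y.left)⁻¹ := by
            rw [mul_inv_rev]; simp only [mul_assoc]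
        _ = _ := by rw [hcom]
    rw [h3] at hy ⊢
    have h4 : il (y.left * (σ y.left)⁻¹) ∈ (P : Subgroup X) := by
      have := mul_mem hy (inv_mem hxP)
      rwa [mul_inv_cancel_right] at this
    have h5 : y.left * (σ y.left)⁻¹ ∈ (S : Subgroup G) := by
      rw [← hcomap]; exact h4
    have h6 := isolated S hσ hS hL h5
    rw [h6, mul_inv_cancel, map_one, one_mul]
  have h7 := H69.zstar_gen (Nat.card X) X le_rfl P x hxP hiso (il g)
  rw [hconj, mul_inv_cancel_right] at h7
  have h8 : (Cfsg.pPrimeCore 2 X).comap il ≤ Cfsg.pPrimeCore 2 G := by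
    apply Solv.le_pPrimeCore inferInstance
    have h9 : Nat.card ((Cfsg.pPrimeCore 2 X).comap il) ∣ Nat.card (Cfsg.pPrimeCore 2 X) :=
      Subgroup.card_comap_dvd_of_injective _ il hil
    exact Nat.Coprime.coprime_dvd_left h9 (Solv.pPrimeCore_card_coprime 2)
  exact h8 h7

end Cfsg.Agent.H32.AutFix
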