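import Mathlib
import Cfsg.Prelude.Def_Local
import Cfsg.Agent.H32.AutFix2
import Cfsg.Agent.FT.Base
import Cfsg.Agent.H4.Final

/-!
`C_{Aut G}(S)` is solvable when `O(G) = 1` (Glauberman).
-/

set_option autoImplicit false
set_option linter.all false

open scoped commutatorElement

namespace Cfsg.Agent.H32.AutFix

open Subgroup

universe u

variable {G : Type u} [Group G]

/-- the stabilizer of `S` in `Aut G` -/
def Stab (S : Subgroup G) : Subgroup (MulAut G) where
  carrier := {σ | ∀ s, s ∈ S ↔ σ s ∈ S}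
  one_mem' := fun s => Iff.rfl
  mul_mem' := by
    intro a b ha hb s
    change s ∈ S ↔ a (b s) ∈ S
    rw [← ha, ← hb]
  inv_mem' := by
    intro a ha s
    rw [ha (a⁻¹ s), MulAut.apply_inv_self]

/-- restriction of automorphisms to `S` -/
def restr (S : Subgroup G) : Stab S →* MulAut S where
  toFun σ :=
    { toFun := fun s => ⟨(σ : MulAut G) s, (σ.2 s).1 s.2⟩
      invFun := fun s => ⟨((σ : MulAut G)⁻¹) s, ((Stab S).inv_mem σ.2 s).1 s.2⟩
      left_inv := fun s => Subtype.ext (MulAut.inv_apply_self _ _ _)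
      right_inv := fun s => Subtype.ext (MulAut.apply_inv_self _ _ _)
      map_mul' := fun s t => Subtype.ext (map_mul _ _ _) }
  map_one' := by ext s; rfl
  map_mul' a b := by ext s; rfl

theorem ker_restr (S : Subgroup G) : (restr S).ker ≤ (FixS S).subgroupOf (Stab S) := by
  intro σ hσ s hs
  have h1 := MonoidHom.mem_ker.1 hσ
  have h2 := congrArg (fun f : MulAut S => ((f ⟨s, hs⟩ : S) : G)) h1
  exact h2

section Fin

variable [Finite G]

theorem commutator_FixS_odd (S : Sylow 2 G) (hO : Cfsg.pPrimeCore 2 G = ⊥) :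
    Odd (Nat.card ↥⁅FixS (S : Subgroup G), FixS (S : Subgroup G)⁆) := by
  haveI : Fact (Nat.Prime 2) := ⟨Nat.prime_two⟩
  haveI : Finite (MulAut G) := inferInstance
  by_contra hcon
  rw [Nat.not_odd_iff_even, even_iff_two_dvd] at hcon
  obtain ⟨σ, hσ⟩ := exists_prime_orderOf_dvd_card' 2 hcon
  have h1 : (σ : MulAut G) ∈ LT 2 (S : Subgroup G) := commutator_le_LT _ σ.2
  have h2 : (σ : MulAut G) ^ 2 ^ 1 = 1 := by
    have : σ ^ 2 = 1 := by
      have h0 := pow_orderOf_eq_one σ
      rwa [hσ] at h0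
    rw [pow_one]
    exact congrArg Subtype.val this
  have h3 : σ = 1 := by
    apply Subtype.ext
    ext g
    have h4 := zstar_aut S h2 h1.1 h1.2 g
    rw [hO, Subgroup.mem_bot, mul_inv_eq_one] at h4
    exact h4.symm
  rw [h3, orderOf_one] at hσ
  norm_num at hσ

theorem FixS_solvable (S : Sylow 2 G) (hO : Cfsg.pPrimeCore 2 G = ⊥) : Group.IsSolvable (FixS (S : Subgroup G)) := by
  haveI : Finite (MulAut G) := inferInstance
  have h1 := commutator_FixS_odd S hO
  have h2 : Nat.card (commutator (FixS (S : Subgroup G))) = Nat.card ↥⁅FixS (S : Subgroup G), FixS (S : Subgroup G)⁆ := by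
    rw [← Subgroup.map_subtype_commutator, Subgroup.card_map_of_injective (Subgroup.subtype_injective _)]
  rw [← h2] at h1
  haveI h3 : Group.IsSolvable (commutator (FixS (S : Subgroup G))) := FT.solvable_of_odd h1
  haveI h4 : Group.IsSolvable (FixS (S : Subgroup G) ⧸ commutator (FixS (S : Subgroup G))) :=
    Group.isSolvable_of_comm (G := Abelianization (FixS (S : Subgroup G))) (fun a b => mul_comm a b)
  refine Group.isSolvable_of_ker_le_range (commutator (FixS (S : Subgroup G))).subtype
    (QuotientGroup.mk' (commutator (FixS (S : Subgroup G)))) ?_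
  rw [Subgroup.range_subtype, QuotientGroup.ker_mk']

theorem Stab_solvable (S : Sylow 2 G) (hO : Cfsg.pPrimeCore 2 G = ⊥)
    (hS : Group.IsSolvable (restr (S : Subgroup G)).range) : Group.IsSolvable (Stab (S : Subgroup G)) := by
  haveI := FixS_solvable S hO
  haveI := hS
  haveI h1 : Group.IsSolvable ((FixS (S : Subgroup G)).subgroupOf (Stab (S : Subgroup G))) := by
    let f : ((FixS (S : Subgroup G)).subgroupOf (Stab (S : Subgroup G))) →* FixS (S : Subgroup G) :=
      { toFun := fun x => ⟨((x : Stab (S : Subgroup G)) : MulAut G), x.2⟩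
        map_one' := rfl
        map_mul' := fun _ _ => rfl }
    refine Group.isSolvable_of_isSolvable_injective (f := f) ?_
    intro a b hab
    have := congrArg (fun z : FixS (S : Subgroup G) => (z : MulAut G)) hab
    exact Subtype.ext (Subtype.ext this)
  refine Group.isSolvable_of_ker_le_range ((FixS (S : Subgroup G)).subgroupOf (Stab (S : Subgroup G))).subtype
    (restr (S : Subgroup G)).rangeRestrict ?_
  rw [Subgroup.range_subtype, MonoidHom.ker_rangeRestrict]
  exact ker_restr _

/-- Frattini argument in `Aut G`. -/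
theorem exists_conj_mul_mem_Stab (S : Sylow 2 G) (σ : MulAut G) :
    ∃ g : G, MulAut.conj g * σ ∈ Stab (S : Subgroup G) := by
  haveI : Fact (Nat.Prime 2) := ⟨Nat.prime_two⟩
  obtain ⟨g, hg⟩ := MulAction.exists_smul_eq G ((S.mapSurjective (f := σ.toMonoidHom) σ.surjective) : Sylow 2 G) S
  refine ⟨g, ?_⟩
  intro s
  have h1 : (S : Subgroup G) = ((S : Subgroup G).map σ.toMonoidHom).map (MulAut.conj g).toMonoidHom := by
    conv_lhs => rw [← hg]
    rfl
  constructor
  · intro hs
    rw [h1]
    exact ⟨σ s, ⟨s, hs, rfl⟩, rfl⟩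
  · intro hs
    rw [h1] at hs
    obtain ⟨_, ⟨t, ht, rfl⟩, hts⟩ := hs
    have h2 : (MulAut.conj g * σ) t = (MulAut.conj g * σ) s := hts
    rwa [← (MulAut.conj g * σ).injective h2]

theorem pPrimeCore_eq_bot_of_simple [IsSimpleGroup G] (S : Sylow 2 G) (hS1 : (S : Subgroup G) ≠ ⊥) :
    Cfsg.pPrimeCore 2 G = ⊥ := by
  haveI : Fact (Nat.Prime 2) := ⟨Nat.prime_two⟩
  rcases (inferInstance : (Cfsg.pPrimeCore 2 G).Normal).eq_bot_or_eq_top with h | h
  · exact h
  · exfalso
    have h1 := Solv.pPrimeCore_card_coprime (G := G) 2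
    rw [h, Subgroup.card_top] at h1
    apply hS1
    rw [Subgroup.eq_bot_iff_card, Sylow.card_eq_multiplicity, Nat.factorization_eq_zero_of_not_dvd
      ((Nat.Prime.coprime_iff_not_dvd Nat.prime_two).1 h1.symm), pow_zero]

end Fin

end Cfsg.Agent.H32.AutFix
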