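import Mathlib
import Cfsg.Prelude.Def_Transfer
import Cfsg.Agent.FT.Base
import Cfsg.Agent.Cop.Basic
import Cfsg.Agent.Cop.Hall
import Cfsg.Agent.H34.Thompson
import Cfsg.Agent.S0117
import Cfsg.Agent.Transfer.Frobenius
import Cfsg.Agent.Transfer.NPC
import Cfsg.Agent.ZJ.TheoremE
import Cfsg.Agent.SigF.Comp
import Cfsg.Agent.ZJ.NPCThm
import Cfsg.Agent.Solv.Core

/-!
Coprime action with all proper invariant subgroups nilpotent (S4240).
-/

set_option autoImplicit false
set_option linter.all false

open scoped Pointwise

namespace Cfsg.Agent.H32.MaxNilp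

open Subgroup

universe u

section

variable {X : Type u} [Group X]

theorem centerThompsonOf_map_equiv {Y : Type u} [Group Y] (p : ℕ) (e : X ≃* Y) (P : Subgroup X) :
    (Cfsg.centerThompsonOf p P).map e.toMonoidHom = Cfsg.centerThompsonOf p (P.map e.toMonoidHom) := by
  have h1 := H34.thompsonSubgroupOf_map p e.toMonoidHom P
    (fun x _ hx => e.injective (by rw [map_one]; exact hx))
  unfold Cfsg.centerThompsonOf
  rw [Subgroup.map_inf _ _ _ e.injective, ← h1]
  congr 1
  ext y
  constructor
  · rintro ⟨x, hx, rfl⟩
    rw [Subgroup.mem_centralizer_iff]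
    rintro _ ⟨z, hz, rfl⟩
    change e z * e x = e x * e z
    rw [← map_mul, Subgroup.mem_centralizer_iff.1 hx z hz, map_mul]
  · intro hy
    refine ⟨e.symm y, ?_, e.apply_symm_apply y⟩
    rw [SetLike.mem_coe, Subgroup.mem_centralizer_iff]
    intro z hz
    apply e.injective
    have := Subgroup.mem_centralizer_iff.1 hy (e z) ⟨z, hz, rfl⟩
    rw [map_mul, map_mul, e.apply_symm_apply]
    exact this

theorem normalizer_map_equiv (e : X ≃* X) (P : Subgroup X) :
    (Subgroup.normalizer (P : Set X)).map e.toMonoidHom = Subgroup.normalizer ((P.map e.toMonoidHom : Subgroup X) : Set X) :=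
  Subgroup.map_equiv_normalizer_eq P e

/-- naturality for an element normalizing `K` and `P ≤ K`. -/
theorem le_normalizer_normalizer {K A : Subgroup X} [hK : K.Normal] {p : ℕ} {P : Subgroup K}
    (hP : A ≤ Subgroup.normalizer ((P.map K.subtype : Subgroup X) : Set X)) :
    A ≤ Subgroup.normalizer (((Subgroup.normalizer ((Cfsg.centerThompsonOf p P : Subgroup K) : Set K)).map K.subtype :
      Subgroup X) : Set X) := by
  intro a ha
  have hcomm : ∀ Q : Subgroup K, (Q.map (MulAut.conjNormal a : MulAut K).toMonoidHom).map K.subtype =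
      (Q.map K.subtype).map (MulAut.conj a).toMonoidHom := by
    intro Q
    rw [Subgroup.map_map, Subgroup.map_map]
    congr 1
  have hmem : ∀ Q : Subgroup K, a ∈ Subgroup.normalizer ((Q.map K.subtype : Subgroup X) : Set X) ↔
      Q.map (MulAut.conjNormal a : MulAut K).toMonoidHom = Q := by
    intro Q
    constructor
    · intro h
      apply Subgroup.map_injective K.subtype_injective
      rw [hcomm]
      exact Cop.conj_smul_eq_of_mem_normalizer h
    · intro h
      apply Cop.mem_normalizer_of_conj_smul_eq
      have h2 := hcomm Q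
      rw [h] at h2
      exact h2.symm
  rw [hmem]
  have h1 := (hmem P).1 (hP ha)
  rw [normalizer_map_equiv, centerThompsonOf_map_equiv, h1]

end

variable {X : Type u} [Group X] [Finite X]

/-- quotient of the situation -/
theorem isNilpotent_of_map {Y : Type u} [Group Y] {H : Subgroup X} (f : X →* Y) (h : Group.IsNilpotent H) :
    Group.IsNilpotent (H.map f) := by
  haveI := h
  exact Group.nilpotent_of_surjective (f.subgroupMap H) (MonoidHom.subgroupMap_surjective f H)

theorem isNilpotent_mono {H K : Subgroup X} (h : H ≤ K) (hK : Group.IsNilpotent K) : Group.IsNilpotent H := by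
  haveI := hK
  exact SigF.isNilpotent_of_injective (Subgroup.inclusion h) (Subgroup.inclusion_injective h)

theorem ZJ_ne_bot {p : ℕ} [Fact p.Prime] {P : Subgroup X} (hP : IsPGroup p P) (hne : P ≠ ⊥) :
    Cfsg.centerThompsonOf p P ≠ ⊥ := by
  rw [← ZJ.rel_zje]
  intro h
  have : Nontrivial P := (Subgroup.nontrivial_iff_ne_bot _).2 hne
  exact ZJ.zje_ne_bot P hP this ((Subgroup.map_eq_bot_iff_of_injective _ P.subtype_injective).1 h)

theorem solvable_aux (n : ℕ) : ∀ (X : Type u) [Group X] [Finite X] (K A : Subgroup X) [K.Normal],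
    Nat.card K = n → (Nat.card A).Coprime (Nat.card K) →
    (∀ H : Subgroup X, H ≤ K → H ≠ K → A ≤ Subgroup.normalizer (H : Set X) → Group.IsNilpotent H) →
    Group.IsSolvable K := by
  induction n using Nat.strong_induction_on with
  | _ n ih =>
  intro X _ _ K A hKn hcard hcop hnil
  by_cases hnilK : Group.IsNilpotent K
  · haveI := hnilK; exact IsNilpotent.to_isSolvable
  -- an odd prime divisor
  obtain ⟨p, hp, hpd, hp2⟩ : ∃ p : ℕ, p.Prime ∧ p ∣ Nat.card K ∧ p ≠ 2 := by
    by_contra hcon
    push Not at hcon
    apply hnilK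
    have h2 : IsPGroup 2 K := by
      rw [IsPGroup.iff_card]
      exact ⟨_, Nat.eq_prime_pow_of_unique_prime_dvd Nat.card_pos.ne' fun {d} hd hdd => hcon d hd hdd⟩
    haveI : Fact (Nat.Prime 2) := ⟨Nat.prime_two⟩
    exact h2.isNilpotent
  haveI : Fact p.Prime := ⟨hp⟩
  obtain ⟨P, hP⟩ := Cop.exists_invariant_sylow (le_normalizer_of_normal : A ≤ Subgroup.normalizer (K : Set X)) hcop
    (FT.solvable_or hcop) p
  set Z := Cfsg.centerThompsonOf p (P : Subgroup K) with hZ
  have hinv := le_normalizer_normalizer (p := p) hP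
  by_cases hNtop : Subgroup.normalizer (Z : Set K) = ⊤
  · -- `Z` normal in `K`
    have hZn : Z.Normal := Subgroup.normalizer_eq_top_iff.1 hNtop
    have hZle : Z ≤ (P : Subgroup K) := ZJ.centerThompsonOf_le p _
    have hZne : Z ≠ ⊥ := by
      apply ZJ_ne_bot P.2
      intro h
      have h1 : p ∣ Nat.card (P : Subgroup K) := P.dvd_card_of_dvd_card hpd
      rw [h, Subgroup.card_bot, Nat.dvd_one] at h1
      exact hp.one_lt.ne' h1
    have hOne : Cfsg.pCore p K ≠ ⊥ := by
      intro h
      apply hZne
      rw [eq_bot_iff, ← h]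
      exact Solv.le_pCore hZn (P.2.to_le hZle)
    set N : Subgroup X := (Cfsg.pCore p K).map K.subtype with hN
    haveI hNn : N.Normal := inferInstance
    have hNK : N ≤ K := Subgroup.map_subtype_le _
    let π := QuotientGroup.mk' N
    have hπ : Function.Surjective π := QuotientGroup.mk'_surjective N
    haveI : (K.map π).Normal := Subgroup.Normal.map inferInstance π hπ
    have hcardK : Nat.card (K.map π) * Nat.card N = Nat.card K := by
      have h1 := Subgroup.card_mul_index (N.subgroupOf K)
      have h2 : Nat.card (N.subgroupOf K) = Nat.card N :=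
        Nat.card_congr (Subgroup.subgroupOfEquivOfLe hNK).toEquiv
      have h3 : (N.subgroupOf K).index = Nat.card (K.map π) := by
        have h4 := Subgroup.index_ker (π.subgroupMap K)
        have h5 : (π.subgroupMap K).ker = N.subgroupOf K := by
          ext x
          rw [MonoidHom.mem_ker, Subgroup.mem_subgroupOf]
          constructor
          · intro h
            have := congrArg (fun y : K.map π => (y : X ⧸ N)) h
            exact (QuotientGroup.eq_one_iff (x : X)).1 this
          · intro h
            apply Subtype.ext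
            exact (QuotientGroup.eq_one_iff (x : X)).2 h
        rw [← h5, h4, MonoidHom.range_eq_top.2 (MonoidHom.subgroupMap_surjective π K), Subgroup.card_top]
      rw [← h1, h2, h3, mul_comm]
    have hN1 : 1 < Nat.card N := by
      rw [hN, Subgroup.card_map_of_injective K.subtype_injective]
      exact Subgroup.one_lt_card_iff_ne_bot _ |>.2 hOne
    have hlt : Nat.card (K.map π) < n := by
      rw [← hcard, ← hcardK]
      exact lt_mul_of_one_lt_right Nat.card_pos hN1
    have hKcomap : (K.map π).comap π = K := by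
      rw [Subgroup.comap_map_eq, QuotientGroup.ker_mk', sup_eq_left.2 hNK]
    have hsol := ih _ hlt (X ⧸ N) (K.map π) (A.map π) rfl (by
        refine Nat.Coprime.coprime_dvd_left (Subgroup.card_map_dvd A π) ?_
        exact Nat.Coprime.coprime_dvd_right ⟨_, hcardK.symm⟩ hcop) (by
        intro H' hH' hne hAH'
        have h1 : Group.IsNilpotent (H'.comap π) := by
          apply hnil
          · rw [← hKcomap]; exact Subgroup.comap_mono hH'
          · intro h
            apply hne
            rw [← Subgroup.map_comap_eq_self_of_surjective hπ H', h]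
          · rw [← Subgroup.comap_normalizer_eq_of_surjective H' hπ]
            exact (Subgroup.map_le_iff_le_comap).1 hAH'
        rw [← Subgroup.map_comap_eq_self_of_surjective hπ H']
        exact isNilpotent_of_map π h1)
    haveI := hsol
    haveI : Group.IsNilpotent (Cfsg.pCore p K) := (Solv.pCore_isPGroup p).isNilpotent
    refine Group.isSolvable_of_ker_le_range (Cfsg.pCore p K).subtype (π.subgroupMap K) ?_
    rw [Subgroup.range_subtype]
    intro x hx
    have h1 := congrArg (fun y : K.map π => (y : X ⧸ N)) (MonoidHom.mem_ker.1 hx)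
    have h2 : (x : X) ∈ N := (QuotientGroup.eq_one_iff (x : X)).1 h1
    obtain ⟨y, hy, hyx⟩ := h2
    rwa [← Subtype.ext hyx]
  · -- normal `p`-complement
    have hNnil : Group.IsNilpotent (Subgroup.normalizer (Z : Set K)) := by
      have h1 := hnil ((Subgroup.normalizer (Z : Set K)).map K.subtype) (Subgroup.map_subtype_le _) (by
        intro h
        apply hNtop
        apply Subgroup.map_injective K.subtype_injective
        rw [h, ← MonoidHom.range_eq_map, Subgroup.range_subtype]) hinv
      haveI := h1
      exact SigF.isNilpotent_of_injective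
        (K.subtype.subgroupMap (Subgroup.normalizer (Z : Set K))) (by
          intro a b hab
          have := congrArg (fun x : (Subgroup.normalizer (Z : Set K)).map K.subtype => (x : X)) hab
          exact Subtype.ext (Subtype.ext this))
    have h1 := (S0117.result hp2 P).2 (Transfer.hasNPC_of_isNilpotent hNnil)
    obtain ⟨M, hM, hMc, k, hk⟩ := Transfer.hasNPC_iff_exists.1 h1
    have hMle : M ≤ Cfsg.pPrimeCore p K := Solv.le_pPrimeCore hM hMc
    have hnorm : ((Cfsg.pPrimeCore p K).map K.subtype).Normal := inferInstance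
    have h2 : Group.IsNilpotent ((Cfsg.pPrimeCore p K).map K.subtype) := by
      refine hnil _ (Subgroup.map_subtype_le _) ?_ (le_normalizer_of_normal)
      intro h
      have h3 := Solv.pPrimeCore_card_coprime (G := K) p
      rw [← Subgroup.card_map_of_injective K.subtype_injective, h] at h3
      exact (Nat.Prime.coprime_iff_not_dvd hp).1 h3.symm hpd
    haveI h3 : Group.IsNilpotent (Cfsg.pPrimeCore p K) := by
      haveI := h2
      exact SigF.isNilpotent_of_injective (K.subtype.subgroupMap (Cfsg.pPrimeCore p K)) (by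
          intro a b hab
          have := congrArg (fun x : (Cfsg.pPrimeCore p K).map K.subtype => (x : X)) hab
          exact Subtype.ext (Subtype.ext this))
    have h4 : IsPGroup p (K ⧸ Cfsg.pPrimeCore p K) := by
      rw [IsPGroup.iff_card]
      have h5 : (Cfsg.pPrimeCore p K).index ∣ p ^ k := hk ▸ Subgroup.index_dvd_of_le hMle
      obtain ⟨j, -, hj⟩ := (Nat.dvd_prime_pow hp).1 h5
      exact ⟨j, hj⟩
    haveI h5 : Group.IsNilpotent (K ⧸ Cfsg.pPrimeCore p K) := h4.isNilpotent
    refine Group.isSolvable_of_ker_le_range (Cfsg.pPrimeCore p K).subtype (QuotientGroup.mk' (Cfsg.pPrimeCore p K)) ?_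
    rw [Subgroup.range_subtype, QuotientGroup.ker_mk']

/-- a normalizer condition: `N_K(P)` contains Hall subgroups for all `{p,q}`. -/
theorem le_normalizer_of_forall {K P : Subgroup X} (hPK : P ≤ K) {p : ℕ}
    (h : ∀ q : ℕ, q.Prime → ∃ H : Subgroup X, H ≤ K ∧ H ≤ Subgroup.normalizer (P : Set X) ∧
      q ^ (Nat.card K).factorization q ∣ Nat.card H) : K ≤ Subgroup.normalizer (P : Set X) := by
  have h1 : Nat.card K ∣ Nat.card ↥(K ⊓ Subgroup.normalizer (P : Set X)) := by
    rw [← Nat.factorization_le_iff_dvd Nat.card_pos.ne' Nat.card_pos.ne']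
    intro q
    by_cases hq : q.Prime
    · obtain ⟨H, hHK, hHN, hd⟩ := h q hq
      rw [← hq.pow_dvd_iff_le_factorization Nat.card_pos.ne']
      exact hd.trans (Subgroup.card_dvd_of_le (le_inf hHK hHN))
    · rw [Nat.factorization_eq_zero_of_not_prime _ hq]
      exact Nat.zero_le _
  have h2 := Subgroup.eq_of_le_of_card_ge (inf_le_left : K ⊓ Subgroup.normalizer (P : Set X) ≤ K)
    (Nat.le_of_dvd Nat.card_pos h1)
  rw [← h2]
  exact inf_le_right

/-- in a nilpotent group `H`, a `p`-subgroup of full order is normal. -/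
theorem le_normalizer_of_nilpotent {H P : Subgroup X} (hH : Group.IsNilpotent H) (hPH : P ≤ H) {p : ℕ}
    [hp : Fact p.Prime] (hP : IsPGroup p P) (hcard : p ^ (Nat.card H).factorization p ∣ Nat.card P) :
    H ≤ Subgroup.normalizer (P : Set X) := by
  haveI := hH
  have hPs : IsPGroup p (P.subgroupOf H) := hP.comap_subtype
  obtain ⟨S, hS⟩ := hPs.exists_le_sylow
  have h1 : P.subgroupOf H = S := by
    apply Subgroup.eq_of_le_of_card_ge hS
    rw [Sylow.card_eq_multiplicity, Nat.card_congr (Subgroup.subgroupOfEquivOfLe hPH).toEquiv]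
    exact Nat.le_of_dvd Nat.card_pos hcard
  have h2 : (S : Subgroup H).Normal := inferInstance
  rw [← h1] at h2
  exact (Subgroup.normal_subgroupOf_iff_le_normalizer hPH).1 h2

theorem card_sylow_map {K : Subgroup X} {p : ℕ} [Fact p.Prime] (P : Sylow p K) :
    Nat.card ((P : Subgroup K).map K.subtype) = p ^ (Nat.card K).factorization p := by
  rw [Subgroup.card_map_of_injective K.subtype_injective, Sylow.card_eq_multiplicity]

theorem nilpotent_of_three {K A : Subgroup X} [hKn : K.Normal] (hcop : (Nat.card A).Coprime (Nat.card K))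
    (hnil : ∀ H : Subgroup X, H ≤ K → H ≠ K → A ≤ Subgroup.normalizer (H : Set X) → Group.IsNilpotent H)
    (hs : Group.IsSolvable K)
    (h3 : ∀ p q : ℕ, p.Prime → q.Prime → p ≠ q → ∃ r : ℕ, r.Prime ∧ r ∣ Nat.card K ∧ r ≠ p ∧ r ≠ q) :
    Group.IsNilpotent K := by
  have hAK : A ≤ Subgroup.normalizer (K : Set X) := le_normalizer_of_normal
  have key : ∀ (p : ℕ) [Fact p.Prime] (P : Sylow p K), (P : Subgroup K).Normal := by
    intro p hp P0
    obtain ⟨P, hP⟩ := Cop.exists_invariant_sylow hAK hcop (Or.inr hs) p
    set P' := (P : Subgroup K).map K.subtype with hP'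
    have hP'K : P' ≤ K := Subgroup.map_subtype_le _
    have h1 : K ≤ Subgroup.normalizer (P' : Set X) := by
      apply le_normalizer_of_forall hP'K (p := p)
      -- for q ≠ p
      have hne : ∀ q : ℕ, q.Prime → q ≠ p → ∃ H : Subgroup X, H ≤ K ∧ H ≤ Subgroup.normalizer (P' : Set X) ∧
          q ^ (Nat.card K).factorization q ∣ Nat.card H := by
        intro q hq hqp
        obtain ⟨m, n, hmn, hm, hn⟩ := Cop.exists_pi_parts {p, q} (Nat.card K) Nat.card_pos.ne'
        have hcmn := Cop.coprime_of_pi hm hn
        have hn0 : n ≠ 0 := by rintro rfl; rw [mul_zero] at hmn; exact Nat.card_pos.ne' hmn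
        have hm0 : m ≠ 0 := by rintro rfl; rw [zero_mul] at hmn; exact Nat.card_pos.ne' hmn
        have hpn : ¬ p ∣ n := fun h => hn p hp.out h (by simp)
        have hqn : ¬ q ∣ n := fun h => hn q hq h (by simp)
        have hfac : ∀ r : ℕ, ¬ r ∣ n → r.Prime → (Nat.card K).factorization r = m.factorization r := by
          intro r hr hrp
          rw [hmn, Nat.factorization_mul hm0 hn0, Finsupp.add_apply,
            Nat.factorization_eq_zero_of_not_dvd hr, add_zero]
        obtain ⟨H, hHK, hHm, hHA, hPH⟩ := Cop.exists_invariant_hall_ge hAK hcop hs hmn hcmn hP'K hP (by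
          rw [card_sylow_map]
          exact Nat.Coprime.pow_left _ ((Nat.Prime.coprime_iff_not_dvd hp.out).2 hpn))
        have hHne : H ≠ K := by
          rintro rfl
          obtain ⟨r, hr, hrd, hrp, hrq⟩ := h3 p q hp.out hq hqp.symm
          rw [hHm] at hrd
          have := hm r hr hrd
          simp only [Set.mem_insert_iff, Set.mem_singleton_iff] at this
          exact this.elim hrp hrq
        have hHnil := hnil H hHK hHne hHA
        refine ⟨H, hHK, ?_, ?_⟩
        · apply le_normalizer_of_nilpotent hHnil hPH (P.2.map _)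
          rw [card_sylow_map, hHm, hfac p hpn hp.out]
        · rw [hHm, hfac q hqn hq]
          exact Nat.ordProj_dvd m q
      intro q hq
      by_cases hqp : q = p
      · subst hqp
        refine ⟨P', hP'K, Subgroup.le_normalizer, ?_⟩
        rw [card_sylow_map]
      · exact hne q hq hqp
    have h2 : (P : Subgroup K).Normal := by
      have h3 := (Subgroup.normal_subgroupOf_iff_le_normalizer hP'K).2 h1
      have h4 : P'.subgroupOf K = (P : Subgroup K) := by
        rw [hP', Subgroup.subgroupOf, Subgroup.comap_map_eq_self_of_injective K.subtype_injective]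
      rwa [h4] at h3
    haveI := Sylow.unique_of_normal P h2
    rw [Subsingleton.elim P0 P]
    exact h2
  exact ((Group.isNilpotent_of_finite_tfae (G := K)).out 0 3).2 key

theorem exists_pResidual_ne_top {K : Type*} [Group K] [Finite K] (hs : Group.IsSolvable K) [Nontrivial K] :
    ∃ r : ℕ, r.Prime ∧ Cfsg.pResidual r K ≠ ⊤ := by
  haveI := hs
  have h1 : commutator K < ⊤ := Group.IsSolvable.commutator_lt_top_of_nontrivial K
  have h2 : 1 < Nat.card (Abelianization K) := by
    have h3 : Nat.card (Abelianization K) = (commutator K).index := rfl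
    rw [h3]
    have h4 := Subgroup.index_eq_one.not.2 h1.ne
    have h5 : (commutator K).index ≠ 0 := Subgroup.index_ne_zero_of_finite
    omega
  obtain ⟨r, hr, hrd⟩ := Nat.exists_prime_and_dvd h2.ne'
  haveI : Fact r.Prime := ⟨hr⟩
  refine ⟨r, hr, fun htop => ?_⟩
  -- all elements of the abelianization have order prime to r
  have h3 : ∀ x : Abelianization K, (orderOf x).Coprime r := by
    let D : Subgroup (Abelianization K) :=
      { carrier := {x | (orderOf x).Coprime r}
        one_mem' := by simp
        mul_mem' := by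
          intro a b ha hb
          have h4 := (Commute.all a b).orderOf_mul_dvd_mul_orderOf
          exact Nat.Coprime.coprime_dvd_left h4 (Nat.Coprime.mul_left ha hb)
        inv_mem' := by
          intro a ha
          simpa using ha }
    have h4 : (Cfsg.pResidual r K).map (Abelianization.of : K →* Abelianization K) ≤ D := by
      rw [Cfsg.pResidual, MonoidHom.map_closure, Subgroup.closure_le]
      rintro _ ⟨g, hg, rfl⟩
      exact Nat.Coprime.coprime_dvd_left (orderOf_map_dvd _ g) hg
    intro x
    obtain ⟨g, rfl⟩ := QuotientGroup.mk_surjective x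
    exact h4 ⟨g, by rw [htop]; trivial, rfl⟩
  obtain ⟨x, hx⟩ := exists_prime_orderOf_dvd_card' r hrd
  have := h3 x
  rw [hx, Nat.coprime_self] at this
  exact hr.one_lt.ne' this

theorem struct {K A : Subgroup X} [hKn : K.Normal] (hcop : (Nat.card A).Coprime (Nat.card K))
    (hnil : ∀ H : Subgroup X, H ≤ K → H ≠ K → A ≤ Subgroup.normalizer (H : Set X) → Group.IsNilpotent H)
    (hK : ¬ Group.IsNilpotent K) :
    Group.IsSolvable K ∧
      (∃ p q a b : ℕ, p.Prime ∧ q.Prime ∧ p ≠ q ∧ Nat.card K = p ^ a * q ^ b) ∧
      ∃ (p : ℕ) (P : Sylow p K), p.Prime ∧ p ∣ Nat.card K ∧ (P : Subgroup K).Normal ∧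
        A ≤ Subgroup.normalizer (((P : Subgroup K).map K.subtype : Subgroup X) : Set X) := by
  have hs : Group.IsSolvable K := solvable_aux _ X K A rfl hcop hnil
  have hnt : Nontrivial K := by
    by_contra h
    rw [not_nontrivial_iff_subsingleton] at h
    exact hK inferInstance
  refine ⟨hs, ?_, ?_⟩
  · by_contra hcon
    apply hK
    apply nilpotent_of_three hcop hnil hs
    intro p q hp hq hpq
    by_contra h3
    push Not at h3
    apply hcon
    obtain ⟨m, n, hmn, hm, hn⟩ := Cop.exists_pi_parts {p} (Nat.card K) Nat.card_pos.ne'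
    have hn0 : n ≠ 0 := by rintro rfl; rw [mul_zero] at hmn; exact Nat.card_pos.ne' hmn
    have hm0 : m ≠ 0 := by rintro rfl; rw [zero_mul] at hmn; exact Nat.card_pos.ne' hmn
    have e1 := Nat.eq_prime_pow_of_unique_prime_dvd hm0 fun {d} hd hdd => hm d hd hdd
    have e2 := Nat.eq_prime_pow_of_unique_prime_dvd hn0 fun {d} hd hdd =>
        h3 d hd (hmn ▸ hdd.mul_left m) (hn d hd hdd)
    refine ⟨p, q, m.primeFactorsList.length, n.primeFactorsList.length, hp, hq, hpq, ?_⟩
    rw [← e1, ← e2, hmn]
  · obtain ⟨r, hr, hrt⟩ := exists_pResidual_ne_top hs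
    haveI : Fact r.Prime := ⟨hr⟩
    have hMn : ((Cfsg.pResidual r K).map K.subtype).Normal := inferInstance
    have hMnil : Group.IsNilpotent ((Cfsg.pResidual r K).map K.subtype) := by
      refine hnil _ (Subgroup.map_subtype_le _) ?_ le_normalizer_of_normal
      intro h
      apply hrt
      apply Subgroup.map_injective K.subtype_injective
      rw [h, ← MonoidHom.range_eq_map, Subgroup.range_subtype]
    have hMnil' : Group.IsNilpotent (Cfsg.pResidual r K) := by
      haveI := hMnil
      exact SigF.isNilpotent_of_injective (K.subtype.subgroupMap (Cfsg.pResidual r K)) (by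
          intro a b hab
          have := congrArg (fun x : (Cfsg.pResidual r K).map K.subtype => (x : X)) hab
          exact Subtype.ext (Subtype.ext this))
    obtain ⟨p, hp, hpd, hpr⟩ : ∃ p : ℕ, p.Prime ∧ p ∣ Nat.card K ∧ p ≠ r := by
      by_contra hcon
      push Not at hcon
      apply hK
      have h2 : IsPGroup r K := by
        rw [IsPGroup.iff_card]
        exact ⟨_, Nat.eq_prime_pow_of_unique_prime_dvd Nat.card_pos.ne' fun {d} hd hdd => hcon d hd hdd⟩
      exact h2.isNilpotent
    haveI : Fact p.Prime := ⟨hp⟩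
    obtain ⟨k, hk⟩ := Transfer.index_pResidual_eq_pow (p := r) (G := K)
    have hcardM : Nat.card (Cfsg.pResidual r K) * r ^ k = Nat.card K := by
      rw [← hk]; exact Subgroup.card_mul_index _
    have hfac : (Nat.card K).factorization p = (Nat.card (Cfsg.pResidual r K)).factorization p := by
      rw [← hcardM, Nat.factorization_mul Nat.card_pos.ne' (pow_ne_zero _ hr.ne_zero), Finsupp.add_apply,
        Nat.factorization_pow, Finsupp.smul_apply, hr.factorization, Finsupp.single_apply, if_neg hpr.symm,
        smul_zero, add_zero]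
    haveI := hMnil'
    obtain ⟨S⟩ : Nonempty (Sylow p (Cfsg.pResidual r K)) := inferInstance
    have hSn : (S : Subgroup (Cfsg.pResidual r K)).Normal := inferInstance
    have hSle : (S : Subgroup (Cfsg.pResidual r K)) ≤ Cfsg.pCore p (Cfsg.pResidual r K) :=
      Solv.le_pCore hSn S.2
    have hle : ((S : Subgroup (Cfsg.pResidual r K)).map (Cfsg.pResidual r K).subtype) ≤ Cfsg.pCore p K :=
      (Subgroup.map_mono hSle).trans (Solv.map_subtype_pCore_le p _)
    have hcard : p ^ (Nat.card K).factorization p ≤ Nat.card (Cfsg.pCore p K) := by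
      rw [hfac, ← Sylow.card_eq_multiplicity S,
        ← Subgroup.card_map_of_injective (Cfsg.pResidual r K).subtype_injective]
      exact Nat.card_le_card_of_injective _ (Subgroup.inclusion_injective hle)
    obtain ⟨P, hP⟩ := (Solv.pCore_isPGroup (G := K) p).exists_le_sylow
    have hPeq : Cfsg.pCore p K = P := Subgroup.eq_of_le_of_card_ge hP (by
      rw [Sylow.card_eq_multiplicity]; exact hcard)
    refine ⟨p, P, hp, hpd, ?_, ?_⟩
    · rw [← hPeq]; infer_instance
    · rw [← hPeq]
      exact le_normalizer_of_normal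

end Cfsg.Agent.H32.MaxNilp
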