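import Mathlib
import Cfsg.Agent.H32.NPF2
import Cfsg.Agent.H32.SECon
import Cfsg.Agent.S1292
import Cfsg.Agent.S3756

/-!
Minimal simple groups with nilpotent `p'`-subgroups, `p > 3`, do not exist.
-/

set_option autoImplicit false
set_option linter.all false

namespace Cfsg.Agent.H32.NP

open Subgroup SigF
open Cfsg.Agent.H32.SFB Cfsg.Agent.H32.SE
open scoped Pointwise

universe u

variable {G : Type u} [Group G] [Finite G] {p : ℕ} [hp : Fact p.Prime]

/-- The cores of the involution centralizers are trivial. -/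
theorem core_trivial' (hse : ∀ M : Subgroup G, ¬ Cfsg.IsStronglyEmbedded M) (hc : CentConstr G)
    (hO : Cfsg.oddCore G = ⊥) (S : Sylow 2 G)
    (h8 : InEight (S : Subgroup G)) (hS : (S : Subgroup G) ≠ ⊥) (W0 : Subgroup G)
    (hW : ∀ B : Subgroup G, B ≤ (S : Subgroup G) → ¬ Cfsg.PRankLE 2 1 ↥B →
      W (fun a : G => Cfsg.centralizerPPrimeCore 2 a) B = W0) {t : G} (ht : orderOf t = 2) :
    Cfsg.centralizerPPrimeCore 2 t = ⊥ := by
  haveI : Fact (Nat.Prime 2) := ⟨Nat.prime_two⟩
  -- an elementary abelian subgroup of order 8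
  obtain ⟨s, hs⟩ : ∃ s : (S : Subgroup G), orderOf s = 2 := by
    apply exists_prime_orderOf_dvd_card' 2
    obtain ⟨n, hn⟩ := IsPGroup.iff_card.1 S.2
    rcases n with _ | n
    · rw [pow_zero, Subgroup.card_eq_one] at hn
      exact absurd hn hS
    · rw [hn]
      exact dvd_pow_self 2 (Nat.succ_ne_zero n)
  obtain ⟨E, hsE, hES, hE, hE8⟩ := h8 s s.2 (by rwa [Subgroup.orderOf_coe])
  have hSr : ¬ Cfsg.PRankLE 2 1 ↥(S : Subgroup G) := FourGraph.not_pRankLE_of_le hES (rank_of_eight hE hE8)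
  have hodd : ¬ 2 ∣ Nat.card W0 := by
    rw [← hW E hES (rank_of_eight hE hE8)]
    exact (cc_complete hc hE hE8).1
  have hcop : (Nat.card W0).Coprime 2 := ((Nat.Prime.coprime_iff_not_dvd Nat.prime_two).2 hodd).symm
  -- `M = N(W0)`
  set M := Subgroup.normalizer (W0 : Set G) with hM
  have hMB : ∀ B : Subgroup G, B ≤ (S : Subgroup G) → ¬ Cfsg.PRankLE 2 1 ↥B →
      Subgroup.normalizer (B : Set G) ≤ M := by
    intro B hB hBr
    rw [hM, ← hW B hB hBr]
    exact conj_cppc_W
  have hSM : (S : Subgroup G) ≤ M := Subgroup.le_normalizer.trans (hMB _ le_rfl hSr)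
  have hW0 : W0 = ⊥ := by
    by_cases hMt : M = ⊤
    · have hn : W0.Normal := Subgroup.normalizer_eq_top_iff.1 hMt
      rw [eq_bot_iff, ← hO]
      exact le_sSup ⟨hn, hcop⟩
    · exact absurd (stronglyEmbedded hc S hSM hMB h8 hS hMt) (hse M)
  -- conjugate `t` into `S`
  have hz : IsPGroup 2 (Subgroup.zpowers t) := by
    rw [IsPGroup.iff_card]
    exact ⟨1, by rw [Nat.card_zpowers, ht, pow_one]⟩
  obtain ⟨x, hx⟩ := H9.exists_conj_smul_le_sylow hz S
  have h1 : x * t * x⁻¹ ∈ (S : Subgroup G) := H9.conj_smul_le_iff.1 hx t (Subgroup.mem_zpowers t)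
  have h2 : orderOf (x * t * x⁻¹) = 2 := by
    rw [← ht]
    exact (MulAut.conj x).orderOf_eq t
  have h3 : Cfsg.centralizerPPrimeCore 2 (x * t * x⁻¹) = ⊥ := by
    rw [← le_bot_iff, ← hW0, ← hW _ le_rfl hSr]
    exact le_W (θ := fun a : G => Cfsg.centralizerPPrimeCore 2 a) h1 (sq_of_order h2).2
  rw [cppc_conj, Subgroup.map_eq_bot_iff_of_injective _ (MulAut.conj x).injective] at h3
  exact h3

theorem Dat.center_eq_bot (D : Dat p G) : Subgroup.center G = ⊥ := by
  rcases D.simp (Subgroup.center G) inferInstance with h3 | h3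
  · exact h3
  · have hsol : Group.IsSolvable ↥(Subgroup.center G) :=
      Group.isSolvable_of_comm (fun a b => Subtype.ext ((Subgroup.mem_center_iff.1 b.2) a))
    exact absurd h3 (D.ne_top hsol)

theorem Dat.cent_sol (D : Dat p G) {t : G} (ht : t ≠ 1) : Group.IsSolvable ↥(centralizer ({t} : Set G)) := by
  apply D.sol
  intro h
  have h1 : t ∈ Subgroup.center G := by
    rw [Subgroup.mem_center_iff]
    intro g
    have : g ∈ centralizer ({t} : Set G) := by rw [h]; trivial
    exact mem_centralizer_singleton_iff.1 this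
  rw [D.center_eq_bot, Subgroup.mem_bot] at h1
  exact ht h1

theorem Dat.centConstr (D : Dat p G) : CentConstr G := by
  haveI : Fact (Nat.Prime 2) := ⟨Nat.prime_two⟩
  intro t ht
  exact SigF.PC.isPConstrained_of_isSolvable (D.cent_sol (StrEmb.ne_one ht))

/-- **there is no such group of even order** -/
theorem Dat.false (D : Dat p G) (he : 2 ∣ Nat.card G) : False := by
  haveI : Fact (Nat.Prime 2) := ⟨Nat.prime_two⟩
  obtain ⟨S, V, hVS, hVe, hV8, hSV⟩ := D.exists_V he
  have hVe' := H62.EA_iff.2 hVe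
  have hS : (S : Subgroup G) ≠ ⊥ := Sylow.ne_bot_of_dvd_card S he
  -- two commuting involutions
  have four : ∃ a b : G, orderOf a = 2 ∧ orderOf b = 2 ∧ a ≠ b ∧ a * b = b * a := by
    obtain ⟨a, ha, ha1, -⟩ := FourGraph.exists_mem_ne (A := V) (by omega) (1 : G)
    obtain ⟨b, hb, hb1, hba⟩ := FourGraph.exists_mem_ne (A := V) (by omega) a
    refine ⟨a, b, orderOf_eq_prime (by rw [pow_two]; exact hVe'.2 a ha) ha1,
      orderOf_eq_prime (by rw [pow_two]; exact hVe'.2 b hb) hb1, hba.symm, hVe'.1 a ha b hb⟩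
  have hse : ∀ M : Subgroup G, ¬ Cfsg.IsStronglyEmbedded M := fun M h => D.no_se h four
  have hcore : Cfsg.pCore 2 G = ⊥ := by
    rcases D.simp (Cfsg.pCore 2 G) (H49.pCore_normal' 2) with h | h
    · exact h
    · exfalso
      have hQp : IsPGroup 2 (Cfsg.pCore 2 G) := H49.pCore_isPGroup 2
      haveI := hQp.isNilpotent
      exact D.ne_top (A := Cfsg.pCore 2 G) inferInstance h
  have hodd : Cfsg.oddCore G = ⊥ := by
    rcases D.simp (Cfsg.oddCore G) (by unfold Cfsg.oddCore; infer_instance) with h | h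
    · exact h
    · exfalso
      have h1 : (Nat.card (Cfsg.pPrimeCore 2 G)).Coprime 2 := Solv.pPrimeCore_card_coprime 2
      have h2 : Cfsg.pPrimeCore 2 G = ⊤ := h
      rw [h2, Subgroup.card_top] at h1
      have := Nat.Coprime.eq_one_of_dvd h1.symm he
      omega
  have hct : ∀ t : G, orderOf t = 2 → Cfsg.centralizerPPrimeCore 2 t = ⊥ := fun t ht =>
    core_trivial' hse D.centConstr hodd S (inEight_of_normal hVS hVe hV8 hSV) hS
      (W (fun a : G => Cfsg.centralizerPPrimeCore 2 a) V)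
      (fun B hB hBr => cc_W_eq D.centConstr S.2 hVe hV8 hSV hB hBr) ht
  have hF : ∀ t : G, orderOf t = 2 → Cfsg.generalizedFittingSubgroup ↥(Subgroup.centralizer ({t} : Set G)) =
      Cfsg.pCore 2 ↥(Subgroup.centralizer ({t} : Set G)) := by
    intro t ht
    have h1 := hct t ht
    unfold Cfsg.centralizerPPrimeCore at h1
    rw [Subgroup.map_eq_bot_iff_of_injective _ (Subgroup.subtype_injective _)] at h1
    rw [← SigF.PC.charP_iff_eq]
    exact (H36.PConstr.isPConstrained_iff_of_core_eq_bot h1).1 (D.centConstr t ht)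
  have hloc : ∀ M : Subgroup G, Cfsg.IsTwoLocal M → Group.IsSolvable M ∧ Cfsg.IsOfCharacteristicTwo ↥M ∧
      ¬ Cfsg.Involves (Equiv.Perm (Fin 4)) ↥M := by
    rintro M ⟨T, hT, hT1, rfl⟩
    have hTs : Group.IsSolvable T := by
      haveI := hT.isNilpotent
      infer_instance
    have hs := D.sol _ (D.norm_ne_top hT1 (D.ne_top hTs))
    refine ⟨hs, ?_, (D.np.sub _).free4 hs D.hp3⟩
    exact SigF.PC.charP_iff_eq.2 (S1292.result hF T hT hT1)
  obtain ⟨M, hM, -⟩ := H62.exists_max (H62.isTwoLocal_of S.2 hS)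
  exact hse M (S3756.result (even_iff_two_dvd.2 he) hcore hloc M hM)

end Cfsg.Agent.H32.NP
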