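import Mathlib
import Cfsg.Agent.H32.NPF3
import Cfsg.Agent.FT.Base

/-!
A finite group all of whose `p'`-subgroups are nilpotent, `p > 3`, is solvable.
-/

set_option autoImplicit false
set_option linter.all false

namespace Cfsg.Agent.H32.NP

open Subgroup

universe u

variable {p : ℕ} [hp : Fact p.Prime]

theorem quot_solvable {G : Type u} [Group G] [Finite G] (hnp : NP p G)
    (hsol : ∀ K : Subgroup G, K ≠ ⊤ → Group.IsSolvable K) (N : Subgroup G) [hN : N.Normal]
    (hNt : N ≠ ⊤) (hpN : ¬ p ∣ N.index) : Group.IsSolvable G := by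
  haveI hNs := hsol N hNt
  suffices h : Group.IsSolvable (G ⧸ N) by
    exact Group.isSolvable_of_ker_le_range N.subtype (QuotientGroup.mk' N) (by
      rw [Subgroup.range_subtype, QuotientGroup.ker_mk'])
  obtain ⟨P⟩ : Nonempty (Sylow p N) := inferInstance
  by_cases hM : normalizer ((P : Subgroup N).map N.subtype : Set G) = ⊤
  · -- `P` is normal
    have hPn : ((P : Subgroup N).map N.subtype).Normal := Subgroup.normalizer_eq_top_iff.1 hM
    set Q := (P : Subgroup N).map N.subtype with hQ
    have hQN : Q ≤ N := Subgroup.map_subtype_le _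
    have hQp : IsPGroup p Q := P.2.map _
    obtain ⟨k, hk⟩ := IsPGroup.iff_card.1 hQp
    have hidx : ¬ p ∣ Q.index := by
      rw [← Subgroup.relIndex_mul_index hQN]
      intro h
      rcases hp.out.dvd_mul.1 h with h | h
      · have h1 : Q.relIndex N = (P : Subgroup N).index := by
          show (((P : Subgroup N).map N.subtype).comap N.subtype).index = _
          rw [Subgroup.comap_map_eq_self_of_injective N.subtype_injective]
        rw [h1] at h
        exact P.not_dvd_index h
      · exact hpN h
    have hcop : Nat.Coprime (Nat.card Q) Q.index := by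
      rw [hk]
      exact Nat.Coprime.pow_left k ((hp.out.coprime_iff_not_dvd).2 hidx)
    obtain ⟨H, hH⟩ := Subgroup.exists_right_complement'_of_coprime hcop
    have hHc : (Nat.card H).Coprime p := by
      have h1 : Nat.card H = Q.index := hH.symm.index_eq_card.symm ▸ rfl
      rw [h1]
      exact ((hp.out.coprime_iff_not_dvd).2 hidx).symm
    haveI := hnp H hHc
    have hs : Function.Surjective ((QuotientGroup.mk' N).comp H.subtype) := by
      intro y
      obtain ⟨g, rfl⟩ := QuotientGroup.mk'_surjective N y
      have h1 : g ∈ Q ⊔ H := by rw [hH.sup_eq_top]; trivial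
      obtain ⟨q, hq, h, hh, rfl⟩ := Subgroup.mem_sup_of_normal_left.1 h1
      refine ⟨⟨h, hh⟩, ?_⟩
      show (QuotientGroup.mk' N) h = (QuotientGroup.mk' N) (q * h)
      rw [map_mul, (QuotientGroup.eq_one_iff q).2 (hQN hq) |> (fun h => show (QuotientGroup.mk' N) q = 1 from h), one_mul]
    exact Group.isSolvable_of_surjective hs
  · haveI := hsol _ hM
    have hs : Function.Surjective ((QuotientGroup.mk' N).comp
        (normalizer ((P : Subgroup N).map N.subtype : Set G)).subtype) := by
      intro y
      obtain ⟨g, rfl⟩ := QuotientGroup.mk'_surjective N y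
      have h1 : g ∈ normalizer ((P : Subgroup N).map N.subtype : Set G) ⊔ N := by
        rw [Sylow.normalizer_sup_eq_top P]; trivial
      rw [sup_comm] at h1
      obtain ⟨q, hq, h, hh, rfl⟩ := Subgroup.mem_sup_of_normal_left.1 h1
      refine ⟨⟨h, hh⟩, ?_⟩
      show (QuotientGroup.mk' N) h = (QuotientGroup.mk' N) (q * h)
      rw [map_mul, (QuotientGroup.eq_one_iff q).2 hq |> (fun h => show (QuotientGroup.mk' N) q = 1 from h), one_mul]
    exact Group.isSolvable_of_surjective hs

theorem main (hp3 : 3 < p) (n : ℕ) : ∀ (G : Type u) [Group G] [Finite G], Nat.card G = n → NP p G →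
    Group.IsSolvable G := by
  induction n using Nat.strong_induction_on with
  | _ n ih =>
  intro G _ _ hn hnp
  by_contra hns
  have hsol : ∀ K : Subgroup G, K ≠ ⊤ → Group.IsSolvable K := by
    intro K hK
    refine ih (Nat.card K) ?_ K rfl (hnp.sub K)
    rw [← hn]
    apply lt_of_le_of_ne (Nat.le_of_dvd Nat.card_pos (Subgroup.card_subgroup_dvd_card K))
    intro h
    exact hK (Subgroup.eq_top_of_card_eq K h)
  have hsimp : ∀ N : Subgroup G, N.Normal → N = ⊥ ∨ N = ⊤ := by
    intro N hN
    by_contra h
    push Not at h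
    obtain ⟨h1, h2⟩ := h
    haveI hNs := hsol N h2
    by_cases hpN : p ∣ N.index
    swap
    · exact hns (quot_solvable hnp hsol N h2 hpN)
    apply hns
    suffices h : Group.IsSolvable (G ⧸ N) by
      exact Group.isSolvable_of_ker_le_range N.subtype (QuotientGroup.mk' N) (by
        rw [Subgroup.range_subtype, QuotientGroup.ker_mk'])
    refine ih (Nat.card (G ⧸ N)) ?_ (G ⧸ N) rfl ?_
    · rw [← hn, ← Subgroup.card_mul_index N, Subgroup.index]
      have h3 : 1 < Nat.card N := by
        rw [Subgroup.one_lt_card_iff_ne_bot]; exact h1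
      have h4 : 0 < Nat.card (G ⧸ N) := Nat.card_pos
      nlinarith
    · intro X hX
      have hXt : X ≠ ⊤ := by
        rintro rfl
        rw [Subgroup.card_top] at hX
        exact (hp.out.coprime_iff_not_dvd).1 hX.symm hpN
      set K := X.comap (QuotientGroup.mk' N) with hK
      have hKt : K ≠ ⊤ := by
        intro h
        apply hXt
        rw [← Subgroup.map_comap_eq_self_of_surjective (QuotientGroup.mk'_surjective N) X, ← hK, h,
          Subgroup.map_top_of_surjective _ (QuotientGroup.mk'_surjective N)]
      have hKs := hsol K hKt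
      have hf : Function.Surjective ((QuotientGroup.mk' N).subgroupComap X) :=
        MonoidHom.subgroupComap_surjective_of_surjective _ _ (QuotientGroup.mk'_surjective N)
      have h3 := (hnp.sub K).quotient hKs ((QuotientGroup.mk' N).subgroupComap X) hf
      have h4 := h3 ⊤ (by rwa [Subgroup.card_top])
      haveI := h4
      exact SigF.isNilpotent_of_injective (Subgroup.topEquiv (G := X)).symm.toMonoidHom
        (Subgroup.topEquiv (G := X)).symm.injective
  by_cases he : 2 ∣ Nat.card G
  · exact Dat.false (p := p) ⟨hnp, hp3, hsol, hsimp, hns⟩ he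
  · exact hns (FT.solvable_of_odd (Nat.not_even_iff_odd.1 (fun h => he (even_iff_two_dvd.1 h))))

end Cfsg.Agent.H32.NP
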