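import Cfsg.Agent.H33.Frattini

/-!
The strong Alperin–Goldschmidt fusion theorem: abstract part (chains, normal forms).
-/

set_option autoImplicit false
set_option linter.all false

namespace Cfsg.Agent.H32.SAF

open Cfsg.Agent.H33

variable {G : Type*} [Group G] {p : ℕ}

local notation "nz(" H ")" => Subgroup.normalizer (SetLike.coe H)

/-- `O^p(X)` for a subgroup -/
def resid (p : ℕ) (X : Subgroup G) : Subgroup G :=
  Subgroup.closure {g | g ∈ X ∧ (orderOf g).Coprime p}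

theorem resid_le (X : Subgroup G) : resid p X ≤ X := by
  rw [resid, Subgroup.closure_le]; intro g hg; exact hg.1

theorem cj_resid (y : G) (X : Subgroup G) : cj y (resid p X) = resid p (cj y X) := by
  have key : ∀ (y : G) (X : Subgroup G), cj y (resid p X) ≤ resid p (cj y X) := by
    intro y X
    rw [resid, cj_closure, Subgroup.closure_le]
    rintro _ ⟨a, ha, rfl⟩
    apply Subgroup.subset_closure
    refine ⟨conj_mem_cj ha.1, ?_⟩
    have h1 : orderOf (y * a * y⁻¹) = orderOf a :=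
      orderOf_injective (MulAut.conj y).toMonoidHom (MulAut.conj y).injective a
    rw [h1]; exact ha.2
  refine le_antisymm (key y X) ?_
  have h := key y⁻¹ (cj y X)
  rw [cj_inv_cj] at h
  rw [cj_le_iff_le_cj, inv_inv] at h
  exact h

/-- the subgroup-level form of the conditions on `H`, `X` -/
structure Nice (p : ℕ) (S H M X : Subgroup G) : Prop where
  le : H ≤ S
  syl : IsSyl p (nS S H) nz(H)
  cen : S ⊓ Subgroup.centralizer (H : Set G) ≤ H
  core : ∀ L V : Subgroup G, V ≤ L → L ≤ nz(H) → nz(H) ≤ nz(L) → nz(H) ≤ nz(V) →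
    ¬ p ∣ Nat.card V → L ≤ V ⊔ (S ⊓ L) → S ⊓ L ≤ H
  Mle : M ≤ nz(H)
  Mne : ¬ nz(H) ≤ M
  Mn : ∀ K, H < K → K ≤ nS S H → nz(H) ⊓ nz(K) ≤ M
  HX : H ≤ X
  XN : X ≤ nz(H)
  Xn : nz(H) ≤ nz(X)
  Xp : p ∣ H.relIndex X
  Xmin : ∀ Y, H ≤ Y → Y ≤ nz(H) → nz(H) ≤ nz(Y) → p ∣ H.relIndex Y → X ≤ Y

theorem exists_cj (y : G) (L : Subgroup G) : ∃ L₀, L = cj y L₀ := ⟨cj y⁻¹ L, (cj_cj_inv y L).symm⟩

theorem cj_lt_cj_iff {g : G} {H K : Subgroup G} : cj g H < cj g K ↔ H < K := by
  rw [lt_iff_le_not_ge, lt_iff_le_not_ge, cj_le_cj_iff, cj_le_cj_iff]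

theorem Nice.conj {S H M X : Subgroup G} (h : Nice p S H M X) (y : G) :
    Nice p (cj y S) (cj y H) (cj y M) (cj y X) := by
  have e1 : ∀ A B : Subgroup G, nS (cj y A) (cj y B) = cj y (nS A B) := by
    intro A B; unfold nS; rw [cj_inf, cj_normalizer]
  constructor
  · exact cj_mono h.le
  · have := h.syl.conj y
    rw [cj_normalizer, ← e1] at this
    exact this
  · rw [← cj_centralizer, ← cj_inf]; exact cj_mono h.cen
  · intro L V
    obtain ⟨L, rfl⟩ := exists_cj y L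
    obtain ⟨V, rfl⟩ := exists_cj y V
    rw [← cj_normalizer, ← cj_normalizer, ← cj_normalizer, ← cj_inf, ← cj_sup, cj_le_cj_iff, cj_le_cj_iff,
      cj_le_cj_iff, cj_le_cj_iff, cj_le_cj_iff, cj_le_cj_iff, card_cj]
    exact h.core L V
  · rw [← cj_normalizer]; exact cj_mono h.Mle
  · rw [← cj_normalizer, cj_le_cj_iff]; exact h.Mne
  · intro K
    obtain ⟨K, rfl⟩ := exists_cj y K
    rw [e1, ← cj_normalizer, ← cj_normalizer, ← cj_inf, cj_le_cj_iff, cj_le_cj_iff, cj_lt_cj_iff]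
    exact h.Mn K
  · exact cj_mono h.HX
  · rw [← cj_normalizer]; exact cj_mono h.XN
  · rw [← cj_normalizer, ← cj_normalizer]; exact cj_mono h.Xn
  · rw [relIndex_cj]; exact h.Xp
  · intro Y
    obtain ⟨Y, rfl⟩ := exists_cj y Y
    rw [← cj_normalizer, ← cj_normalizer, cj_le_cj_iff, cj_le_cj_iff, cj_le_cj_iff, cj_le_cj_iff, relIndex_cj]
    exact h.Xmin Y

/-- an admissible step -/
def Good (p : ℕ) (S H X : Subgroup G) (x : G) : Prop := (∃ M, Nice p S H M X) ∧ x ∈ resid p X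

theorem Good.conj {S H X : Subgroup G} {x : G} (h : Good p S H X x) {y : G} (hy : y ∈ nz(S)) :
    Good p S (cj y H) (cj y X) (y * x * y⁻¹) := by
  obtain ⟨⟨M, hM⟩, hx⟩ := h
  refine ⟨⟨cj y M, ?_⟩, ?_⟩
  · have := hM.conj y
    rwa [mem_norm_iff.1 hy] at this
  · rw [← cj_resid]; exact conj_mem_cj hx

theorem Good.inv {S H X : Subgroup G} {x : G} (h : Good p S H X x) : Good p S H X x⁻¹ :=
  ⟨h.1, inv_mem h.2⟩

theorem Good.mem_norm {S H X : Subgroup G} {x : G} (h : Good p S H X x) : x ∈ nz(H) := by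
  obtain ⟨⟨M, hM⟩, hx⟩ := h
  exact hM.XN (resid_le X hx)

/-- chains of admissible right conjugations -/
inductive Ch (p : ℕ) (S : Subgroup G) : Set G → G → Prop
  | one (A : Set G) : Ch p S A 1
  | step (A : Set G) (H X : Subgroup G) (x g : G) (hG : Good p S H X x)
      (hA : A ⊆ H) (h : Ch p S (rc x A) g) : Ch p S A (x * g)

namespace Ch

variable {S : Subgroup G}

theorem mono {A A' : Set G} {g : G} (h : Ch p S A g) (hA : A' ⊆ A) : Ch p S A' g := by
  induction h generalizing A' with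
  | one A => exact one _
  | step A H X x g hG hAH h ih => exact step A' H X x g hG (hA.trans hAH) (ih (rc_mono hA))

theorem trans {A : Set G} {g h : G} (h1 : Ch p S A g) (h2 : Ch p S (rc g A) h) :
    Ch p S A (g * h) := by
  induction h1 with
  | one A => rw [rc_one] at h2; simpa using h2
  | step A H X x g hG hAH h1 ih =>
    rw [rc_mul] at h2
    rw [mul_assoc]
    exact step A H X x _ hG hAH (ih h2)

theorem single {A : Set G} {H X : Subgroup G} {x : G} (hG : Good p S H X x) (hA : A ⊆ H) :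
    Ch p S A x := by
  have := step A H X x 1 hG hA (one _)
  simpa using this

theorem inv {A : Set G} {g : G} (h : Ch p S A g) : Ch p S (rc g A) g⁻¹ := by
  induction h with
  | one A => simpa using one (p := p) (S := S) _
  | step A H X x g hG hAH h ih =>
    rw [rc_mul, mul_inv_rev]
    refine trans ih ?_
    rw [← rc_mul, mul_inv_cancel, rc_one]
    exact single hG.inv (rc_subset_of_norm hG.mem_norm hAH)

theorem conj {A : Set G} {g : G} (h : Ch p S A g) {y : G} (hy : y ∈ nz(S)) :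
    Ch p S (rc y⁻¹ A) (y * g * y⁻¹) := by
  induction h with
  | one A => simpa using one (p := p) (S := S) _
  | step A H X x g hG hAH h ih =>
    have e : y * (x * g) * y⁻¹ = (y * x * y⁻¹) * (y * g * y⁻¹) := by group
    rw [e]
    refine step _ (cj y H) (cj y X) _ _ (hG.conj hy) ?_ ?_
    · have := rc_mono (x := y⁻¹) hAH
      rwa [rc_coe, inv_inv] at this
    · have e2 : rc (y * x * y⁻¹) (rc y⁻¹ A) = rc y⁻¹ (rc x A) := by
        rw [← rc_mul, ← rc_mul]; congr 1; group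
      rw [e2]; exact ih

end Ch

/-- normal form `c h y` -/
def NF (p : ℕ) (S : Subgroup G) (A : Set G) (g : G) : Prop :=
  ∃ c ∈ Subgroup.centralizer A, ∃ y ∈ nz(S), ∃ h, g = c * h * y ∧ Ch p S A h

theorem rc_cent {A : Set G} {c : G} (hc : c ∈ Subgroup.centralizer A) : rc c A = A := by
  unfold rc
  have : ∀ a ∈ A, c⁻¹ * a * c = a := by
    intro a ha
    have := (Subgroup.mem_centralizer_iff.1 hc) a ha
    rw [mul_assoc, this]; simp
  ext x
  constructor
  · rintro ⟨a, ha, rfl⟩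
    simp only [this a ha]; exact ha
  · intro hx
    exact ⟨x, hx, this x hx⟩

theorem cent_conj {A : Set G} {g c : G} (hc : c ∈ Subgroup.centralizer (rc g A)) :
    g * c * g⁻¹ ∈ Subgroup.centralizer A := by
  rw [Subgroup.mem_centralizer_iff] at hc ⊢
  intro a ha
  have h := hc (g⁻¹ * a * g) ⟨a, ha, rfl⟩
  have h2 : g * (g⁻¹ * a * g * c) * g⁻¹ = g * (c * (g⁻¹ * a * g)) * g⁻¹ := by rw [h]
  calc a * (g * c * g⁻¹) = g * (g⁻¹ * a * g * c) * g⁻¹ := by group
    _ = _ := h2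
    _ = g * c * g⁻¹ * a := by group

namespace NF

variable {S : Subgroup G}

theorem mono {A A' : Set G} {g : G} (h : NF p S A g) (hA : A' ⊆ A) : NF p S A' g := by
  obtain ⟨c, hc, y, hy, h, rfl, hh⟩ := h
  exact ⟨c, Subgroup.centralizer_le hA hc, y, hy, h, rfl, hh.mono hA⟩

theorem of_cent {A : Set G} {c : G} (hc : c ∈ Subgroup.centralizer A) : NF p S A c :=
  ⟨c, hc, 1, one_mem _, 1, by simp, Ch.one _⟩

theorem of_norm {A : Set G} {y : G} (hy : y ∈ nz(S)) : NF p S A y :=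
  ⟨1, one_mem _, y, hy, 1, by simp, Ch.one _⟩

theorem of_good {A : Set G} {H X : Subgroup G} {x : G} (hG : Good p S H X x) (hA : A ⊆ H) : NF p S A x :=
  ⟨1, one_mem _, 1, one_mem _, x, by simp, Ch.single hG hA⟩

theorem comp {A : Set G} {g g' : G} (h1 : NF p S A g) (h2 : NF p S (rc g A) g') : NF p S A (g * g') := by
  obtain ⟨c, hc, y, hy, h, rfl, hh⟩ := h1
  obtain ⟨c', hc', y', hy', h', rfl, hh'⟩ := h2
  have eA : rc (c * h * y) A = rc y (rc h A) := by
    rw [mul_assoc, rc_mul c, rc_cent hc, rc_mul]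
  rw [eA] at hc' hh'
  refine ⟨c * (h * (y * c' * y⁻¹) * h⁻¹), mul_mem hc (cent_conj (cent_conj hc')), y * y', mul_mem hy hy',
    h * (y * h' * y⁻¹), by group, ?_⟩
  refine hh.trans ?_
  have := hh'.conj hy
  rwa [← rc_mul, mul_inv_cancel, rc_one] at this

theorem inv {A : Set G} {g : G} (h1 : NF p S A g) : NF p S (rc g A) g⁻¹ := by
  obtain ⟨c, hc, y, hy, h, rfl, hh⟩ := h1
  have eA : rc (c * h * y) A = rc (h * y) A := by
    rw [mul_assoc, rc_mul c, rc_cent hc]
  rw [eA]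
  refine ⟨y⁻¹ * h⁻¹ * c⁻¹ * h * y, ?_, y⁻¹, inv_mem hy, y⁻¹ * h⁻¹ * y, by group, ?_⟩
  · have h3 : c⁻¹ ∈ Subgroup.centralizer (rc (h * y)⁻¹ (rc (h * y) A)) := by
      rw [← rc_mul, mul_inv_cancel, rc_one]; exact inv_mem hc
    have h4 := cent_conj h3
    have e : (h * y)⁻¹ * c⁻¹ * (h * y)⁻¹⁻¹ = y⁻¹ * h⁻¹ * c⁻¹ * h * y := by group
    rwa [e] at h4
  · have := hh.inv.conj (inv_mem hy)
    rw [inv_inv, ← rc_mul] at this
    exact this

end NF

/-- `y ↦ NF U y` on the normalizer of `U` -/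
def NM (p : ℕ) (S U : Subgroup G) : Subgroup G where
  carrier := {y | y ∈ nz(U) ∧ NF p S (U : Set G) y}
  one_mem' := ⟨one_mem _, NF.of_cent (one_mem _)⟩
  mul_mem' := by
    rintro a b ⟨ha, ha'⟩ ⟨hb, hb'⟩
    refine ⟨mul_mem ha hb, ha'.comp ?_⟩
    rw [rc_coe, mem_norm_iff.1 (inv_mem ha)]
    exact hb'
  inv_mem' := by
    rintro a ⟨ha, ha'⟩
    refine ⟨inv_mem ha, ?_⟩
    have := ha'.inv
    rwa [rc_coe, mem_norm_iff.1 (inv_mem ha)] at this

theorem mem_NM {S U : Subgroup G} {y : G} : y ∈ NM p S U ↔ y ∈ nz(U) ∧ NF p S (U : Set G) y := Iff.rfl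

end Cfsg.Agent.H32.SAF
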